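import Groth.Agent.An.H867.Nhds
import Groth.Agent.An.H866.AlgDense

/-!
# Closures of locally constructible sets and complex points
-/

set_option autoImplicit false
open CategoryTheory AlgebraicGeometry Topology TopologicalSpace Opposite

noncomputable section

namespace Groth.Agent.An.H867.Closure

open Groth.Agent.An.H863.PtsBasic

variable {X : Scheme.{0}} [X.Over An.SC]

/-- A point of the closure of a locally constructible set lies in the closure of its complex
points. -/
theorem mem_closure_pts_of_hclose (hclose : Alg.HClose) [LocallyOfFiniteType (X ↘ An.SC)]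
    {T : Set X} (hT : IsLocallyConstructible T) (x : An.Pts X) (hx : x.pt ∈ closure T) :
    x ∈ closure (An.Pts.pt ⁻¹' T) := by
  -- an affine chart
  obtain ⟨U, hU, hxU, -⟩ := exists_isAffineOpen_mem_and_subset (x := x.pt) (U := ⊤) trivial
  let : Algebra ℂ Γ(X, U) := (strU U).toAlgebra
  have : Algebra.FiniteType ℂ Γ(X, U) := Nhds.finiteType_strU U hU
  -- the constructible set in the chart
  have hT' : IsConstructible (hU.fromSpec ⁻¹' T) :=
    (hT.preimage_of_isOpenEmbedding hU.fromSpec.isOpenEmbedding).isConstructible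
  rw [mem_closure_iff_nhds_basis (Nhds.hasBasis_nhds x U hU hxU)]
  rintro ⟨S, ε⟩ hε
  let x₀ : Γ(X, U) →ₐ[ℂ] ℂ := { evHom x U hxU with commutes' := fun c => ev_strU x U hxU c }
  have hmem : Alg.kerPt (x₀ : Γ(X, U) →+* ℂ) ∈ closure (hU.fromSpec ⁻¹' T) := by
    have h1 := hU.fromSpec.isOpenEmbedding.isOpenMap.preimage_closure_eq_closure_preimage
      hU.fromSpec.continuous T
    have h2 : (Alg.kerPt (x₀ : Γ(X, U) →+* ℂ) : Spec Γ(X, U)) ∈ hU.fromSpec ⁻¹' closure T := by
      have h3 := Nhds.fromSpec_kerPt x U hU hxU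
      change hU.fromSpec (Alg.kerPt (evHom x U hxU)) ∈ closure T
      rw [h3]
      exact hx
    rw [h1] at h2
    exact h2
  obtain ⟨y, hyT, hy⟩ := Alg.exists_close_of_mem_closure hclose Γ(X, U) hT' x₀ hmem S ε hε
  obtain ⟨z, hzU, hz⟩ := Nhds.exists_pts_of_ringHom U hU (y : Γ(X, U) →+* ℂ) (fun c => y.commutes c)
  refine ⟨z, ?_, hzU, ?_⟩
  · rw [Set.mem_preimage, ← Nhds.fromSpec_kerPt z U hU hzU, hz]
    exact hyT
  · intro f hf
    have h1 : z.ev U hzU f = y f := congr($hz f)
    rw [h1]
    exact hy f hf

theorem hClose : Alg.HClose := by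
  intro A _ _ _ _ f hf x₀ S ε hε
  exact Groth.Agent.An.H866.AlgDense.exists_close A f hf x₀ S ε hε

/-- A point of the closure of a locally constructible set lies in the closure of its complex
points. -/
theorem mem_closure_pts [LocallyOfFiniteType (X ↘ An.SC)]
    {T : Set X} (hT : IsLocallyConstructible T) (x : An.Pts X) (hx : x.pt ∈ closure T) :
    x ∈ closure (An.Pts.pt ⁻¹' T) :=
  mem_closure_pts_of_hclose hClose hT x hx

/-- Taking complex points commutes with closure, for locally constructible sets. -/
theorem closure_preimage_pt [LocallyOfFiniteType (X ↘ An.SC)]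
    {T : Set X} (hT : IsLocallyConstructible T) :
    closure (An.Pts.pt ⁻¹' T : Set (An.Pts X)) = An.Pts.pt ⁻¹' (closure T) := by
  refine Set.Subset.antisymm ?_ fun x hx => mem_closure_pts hT x hx
  exact closure_minimal (Set.preimage_mono subset_closure)
    (isClosed_closure.preimage An.Pts.continuous_pt)

/-- A closed subset containing the underlying point of each complex point is everything. -/
theorem eq_univ_of_isClosed [LocallyOfFiniteType (X ↘ An.SC)] {Z : Set X} (hZ : IsClosed Z)
    (h : (An.Pts.pt ⁻¹' Z : Set (An.Pts X)) = Set.univ) : Z = Set.univ := by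
  by_contra hne
  obtain ⟨x, hx⟩ := exists_pt_mem_of_isOpen hZ.isOpen_compl
    (Set.nonempty_compl.2 hne)
  have : x ∈ (An.Pts.pt ⁻¹' Z : Set (An.Pts X)) := by rw [h]; trivial
  exact hx this

theorem dense_iff [LocallyOfFiniteType (X ↘ An.SC)]
    {T : Set X} (hT : IsLocallyConstructible T) :
    Dense T ↔ Dense (An.Pts.pt ⁻¹' T : Set (An.Pts X)) := by
  rw [dense_iff_closure_eq, dense_iff_closure_eq, closure_preimage_pt hT]
  refine ⟨fun h => by rw [h]; rfl, fun h => eq_univ_of_isClosed isClosed_closure h⟩

end Groth.Agent.An.H867.Closure
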