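import Groth.Agent.An.H871.Imm
import Groth.Agent.An.H871.Surj
import Groth.Agent.An.H869.Conn
import Groth.Agent.An.H868.Clopen
import Groth.Agent.An.H867.Closure
import Mathlib.AlgebraicGeometry.IdealSheaf.Subscheme

/-!
# Closed subsets of `X(ℂ)` that are unions of strata

`IsStrat N` (`N ⊆ X(ℂ)`): every irreducible closed `W ⊆ X` has a nonempty open piece all of whose complex
points are in `N`, or all of whose complex points are outside `N`.

* `isPreconnected_preimage_pt`: the complex points of a nonempty open piece of an irreducible closed set are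
  connected;
* `exists_isClosed`: a closed subset `N` of `X(ℂ)` with `IsStrat N` is `pt ⁻¹' Z` for a Zariski closed `Z`.
-/

set_option autoImplicit false

open CategoryTheory AlgebraicGeometry Topology TopologicalSpace

noncomputable section

namespace Groth.Agent.An.H867.Strat

open Groth.Agent.An.H871

/-- Noetherian induction. -/
theorem exists_constructible {Y P : Type*} [TopologicalSpace Y] [NoetherianSpace Y] (pt : P → Y)
    (N : Set P)
    (h : ∀ W : Set Y, IsClosed W → IsIrreducible W → ∃ U : Set Y, IsOpen U ∧ (W ∩ U).Nonempty ∧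
      (pt ⁻¹' (W ∩ U) ⊆ N ∨ Disjoint (pt ⁻¹' (W ∩ U)) N)) :
    ∃ T : Set Y, IsConstructible T ∧ pt ⁻¹' T = N := by
  have hopen : ∀ U : Set Y, IsOpen U → IsConstructible U := fun U hU => by
    refine IsRetrocompact.isConstructible hU fun V _ hV => ?_
    exact NoetherianSpace.isCompact _
  have key : ∀ W : Closeds Y, ∃ T : Set Y, IsConstructible T ∧ pt ⁻¹' T = N ∩ pt ⁻¹' W := by
    intro W
    induction W using WellFoundedLT.induction with
    | ind W ih =>
      by_cases hirr : IsIrreducible (W : Set Y)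
      · obtain ⟨U, hU, hne, hor⟩ := h W W.2 hirr
        let W' : Closeds Y := ⟨W ∩ Uᶜ, W.2.inter hU.isClosed_compl⟩
        have hlt : W' < W := by
          refine lt_of_le_of_ne (fun y hy => hy.1) fun e => ?_
          obtain ⟨y, hy, hyU⟩ := hne
          have : y ∈ W' := by rw [e]; exact hy
          exact this.2 hyU
        obtain ⟨T', hT', hT''⟩ := ih W' hlt
        have hWU : IsConstructible ((W : Set Y) ∩ U) :=
          IsConstructible.inter (isConstructible_compl.1 (hopen _ W.2.isOpen_compl)) (hopen U hU)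
        have hsplit : ∀ p : P, pt p ∈ (W : Set Y) ↔ (pt p ∈ (W : Set Y) ∩ U ∨ pt p ∈ W') := by
          intro p
          constructor
          · intro hp
            by_cases hpU : pt p ∈ U
            · exact Or.inl ⟨hp, hpU⟩
            · exact Or.inr ⟨hp, hpU⟩
          · rintro (hp | hp)
            · exact hp.1
            · exact hp.1
        rcases hor with hor | hor
        · refine ⟨(W ∩ U) ∪ T', hWU.union hT', ?_⟩
          rw [Set.preimage_union, hT'']
          ext p
          constructor
          · rintro (hp | ⟨hp1, hp2⟩)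
            · exact ⟨hor hp, (hsplit p).2 (Or.inl hp)⟩
            · exact ⟨hp1, (hsplit p).2 (Or.inr hp2)⟩
          · rintro ⟨hp1, hp2⟩
            rcases (hsplit p).1 hp2 with hp | hp
            · exact Or.inl hp
            · exact Or.inr ⟨hp1, hp⟩
        · refine ⟨T', hT', ?_⟩
          rw [hT'']
          ext p
          constructor
          · rintro ⟨hp1, hp2⟩
            exact ⟨hp1, (hsplit p).2 (Or.inr hp2)⟩
          · rintro ⟨hp1, hp2⟩
            rcases (hsplit p).1 hp2 with hp | hp
            · exact absurd hp1 (Set.disjoint_left.1 hor hp)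
            · exact ⟨hp1, hp⟩
      · by_cases hne : (W : Set Y).Nonempty
        · have hirr' : ¬ IsPreirreducible (W : Set Y) := fun hh => hirr ⟨hne, hh⟩
          rw [isPreirreducible_iff_isClosed_union_isClosed] at hirr'
          push Not at hirr'
          obtain ⟨z₁, z₂, hz₁, hz₂, hz, h1, h2⟩ := hirr'
          let W₁ : Closeds Y := ⟨W ∩ z₁, W.2.inter hz₁⟩
          let W₂ : Closeds Y := ⟨W ∩ z₂, W.2.inter hz₂⟩
          have hlt₁ : W₁ < W := by
            refine lt_of_le_of_ne (fun y hy => hy.1) fun e => h1 fun y hy => ?_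
            have : y ∈ W₁ := by rw [e]; exact hy
            exact this.2
          have hlt₂ : W₂ < W := by
            refine lt_of_le_of_ne (fun y hy => hy.1) fun e => h2 fun y hy => ?_
            have : y ∈ W₂ := by rw [e]; exact hy
            exact this.2
          obtain ⟨T₁, hT₁, hT₁'⟩ := ih W₁ hlt₁
          obtain ⟨T₂, hT₂, hT₂'⟩ := ih W₂ hlt₂
          refine ⟨T₁ ∪ T₂, hT₁.union hT₂, ?_⟩
          rw [Set.preimage_union, hT₁', hT₂']
          ext p
          constructor
          · rintro (⟨hp1, hp2⟩ | ⟨hp1, hp2⟩)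
            · exact ⟨hp1, hp2.1⟩
            · exact ⟨hp1, hp2.1⟩
          · rintro ⟨hp1, hp2⟩
            rcases hz hp2 with hp | hp
            · exact Or.inl ⟨hp1, hp2, hp⟩
            · exact Or.inr ⟨hp1, hp2, hp⟩
        · refine ⟨∅, IsConstructible.empty, ?_⟩
          rw [Set.not_nonempty_iff_eq_empty] at hne
          rw [hne]
          simp
  obtain ⟨T, hT, hT'⟩ := key ⊤
  exact ⟨T, hT, by simpa using hT'⟩

variable {X Y : Scheme.{0}} [X.Over An.SC] [Y.Over An.SC]

/-- `N` is a union of strata. -/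
def IsStrat (N : Set (An.Pts X)) : Prop :=
  ∀ W : Set X, IsClosed W → IsIrreducible W → ∃ U : Set X, IsOpen U ∧ (W ∩ U).Nonempty ∧
    ((∀ a : An.Pts X, a.pt ∈ W → a.pt ∈ U → a ∈ N) ∨
      (∀ a : An.Pts X, a.pt ∈ W → a.pt ∈ U → a ∉ N))

/-- Preimages. -/
theorem IsStrat.preimage (f : Y ⟶ X) [f.IsOver An.SC] {N : Set (An.Pts X)} (h : IsStrat N) :
    IsStrat (An.Pts.map f ⁻¹' N) := by
  intro W hW hirr
  have h1 : IsIrreducible (closure (f '' W)) := (hirr.image _ f.continuous.continuousOn).closure
  obtain ⟨U, hU, hne, hor⟩ := h _ isClosed_closure h1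
  refine ⟨f ⁻¹' U, hU.preimage f.continuous, ?_, ?_⟩
  · obtain ⟨x, hx, hxU⟩ := hne
    obtain ⟨_, hy, y, hyW, rfl⟩ := mem_closure_iff.1 hx U hU hxU
    exact ⟨y, hyW, hy⟩
  · refine hor.imp (fun hor a ha haU => ?_) (fun hor a ha haU => ?_)
    · refine hor _ ?_ ?_
      · rw [An.Pts.pt_map]
        exact subset_closure ⟨_, ha, rfl⟩
      · rw [An.Pts.pt_map]
        exact haU
    · refine hor _ ?_ ?_
      · rw [An.Pts.pt_map]
        exact subset_closure ⟨_, ha, rfl⟩
      · rw [An.Pts.pt_map]
        exact haU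

theorem IsStrat.compl {N : Set (An.Pts X)} (h : IsStrat N) : IsStrat Nᶜ := by
  intro W hW hirr
  obtain ⟨U, hU, hne, hor⟩ := h W hW hirr
  refine ⟨U, hU, hne, ?_⟩
  rcases hor with hor | hor
  · exact Or.inr fun a ha haU hN => hN (hor a ha haU)
  · exact Or.inl fun a ha haU => hor a ha haU

variable [LocallyOfFiniteType (X ↘ An.SC)]

/-- The complex points of a nonempty open piece of an irreducible closed set are connected. -/
theorem isPreconnected_preimage_pt {W : Set X} (hW : IsClosed W) (hirr : IsIrreducible W)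
    (U : X.Opens) (hne : (W ∩ U).Nonempty) :
    _root_.IsPreconnected (An.Pts.pt ⁻¹' (W ∩ (U : Set X)) : Set (An.Pts X)) := by
  let C : Closeds U := ⟨U.ι ⁻¹' W, hW.preimage U.ι.continuous⟩
  let I := Scheme.IdealSheafData.vanishingIdeal (X := U.toScheme) C
  let f : I.subscheme ⟶ X := I.subschemeι ≫ U.ι
  have hrange : Set.range f = W ∩ (U : Set X) := by
    have h1 : Set.range f = U.ι '' (Set.range I.subschemeι) := by
      rw [← Set.range_comp]
      rfl
    have h2 : Set.range I.subschemeι = U.ι ⁻¹' W := by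
      rw [Scheme.IdealSheafData.range_subschemeι]
      simp [I, C]
    rw [h1, h2]
    ext x
    constructor
    · rintro ⟨y, hy, rfl⟩
      exact ⟨hy, y.2⟩
    · rintro ⟨hx, hxU⟩
      exact ⟨⟨x, hxU⟩, hx, rfl⟩
  let _ : I.subscheme.Over An.SC := ⟨f ≫ (X ↘ An.SC)⟩
  have hf : f.IsOver An.SC := ⟨rfl⟩
  have hlft : LocallyOfFiniteType (I.subscheme ↘ An.SC) := by
    change LocallyOfFiniteType (f ≫ (X ↘ An.SC))
    infer_instance
  have himm : IsImmersion f := inferInstance
  have hirr' : _root_.IsPreconnected (Set.range f) := by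
    rw [hrange]
    refine IsPreirreducible.isPreconnected fun u v hu hv hu' hv' => ?_
    have := hirr.2 (U ∩ u) (U ∩ v) (U.2.inter hu) (U.2.inter hv)
      (by rwa [← Set.inter_assoc]) (by rwa [← Set.inter_assoc])
    obtain ⟨x, hx, ⟨hxU, hxu⟩, -, hxv⟩ := this
    exact ⟨x, ⟨hx, hxU⟩, hxu, hxv⟩
  have hconn : ConnectedSpace I.subscheme := by
    rw [← Set.image_univ, f.isEmbedding.isInducing.isPreconnected_image] at hirr'
    have : Nonempty I.subscheme := by
      obtain ⟨x, hx⟩ := hne
      rw [← hrange] at hx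
      exact ⟨hx.choose⟩
    exact { isPreconnected_univ := hirr', toNonempty := this }
  have hC : ConnectedSpace (An.Pts I.subscheme) :=
    (Groth.Agent.An.H868.Clopen.connectedSpace_iff Groth.Agent.An.H869.Conn.conn
      I.subscheme).1 hconn
  rw [← hrange, ← Imm.range_map_of_isImmersion]
  exact isPreconnected_range (An.Pts.continuous_map f)

/-- A closed union of strata is Zariski closed. -/
theorem mem_of_mem_closure {N : Set (An.Pts X)} (hN : IsClosed N) (h : IsStrat N) (a : An.Pts X)
    (ha : a.pt ∈ closure (An.Pts.pt '' N)) : a ∈ N := by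
  have hnoeth : IsLocallyNoetherian X := Surj.isLocallyNoetherian X
  obtain ⟨V, hV, haV, -⟩ := exists_isAffineOpen_mem_and_subset (x := a.pt) (U := ⊤) trivial
  have hlftV : LocallyOfFiniteType (V.toScheme ↘ An.SC) := Imm.locallyOfFiniteType_opens V
  have hnV : IsNoetherian V.toScheme := by
    have : CompactSpace V.toScheme := isCompact_iff_compactSpace.1 hV.isCompact
    exact { }
  have hNV : IsClosed (An.Pts.map V.ι ⁻¹' N) := hN.preimage (An.Pts.continuous_map V.ι)
  obtain ⟨T, hT, hTN⟩ := exists_constructible (An.Pts.pt : An.Pts V.toScheme → V.toScheme)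
    (An.Pts.map V.ι ⁻¹' N) (fun W hW hirr => by
      obtain ⟨U, hU, hne, hor⟩ := h.preimage V.ι W hW hirr
      refine ⟨U, hU, hne, hor.imp (fun hor a ha => hor a ha.1 ha.2) (fun hor => ?_)⟩
      exact Set.disjoint_left.2 fun a ha => hor a ha.1 ha.2)
  have hTcl : IsClosed T := by
    have hTl := hT.isLocallyConstructible
    have hTc : closure T = T := by
      refine Set.Subset.antisymm ?_ subset_closure
      have hcl : IsLocallyConstructible (closure T) := by
        refine IsConstructible.isLocallyConstructible ?_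
        rw [← isConstructible_compl]
        refine IsRetrocompact.isConstructible isClosed_closure.isOpen_compl fun V _ hV => ?_
        exact NoetherianSpace.isCompact _
      rw [Basic.subset_iff_of_isLocallyConstructible hcl hTl]
      intro p hp
      have := Groth.Agent.An.H867.Closure.mem_closure_pts hTl p hp
      rwa [hTN, hNV.closure_eq, ← hTN] at this
    rw [← hTc]
    exact isClosed_closure
  have hr : a ∈ Set.range (An.Pts.map V.ι) := by
    rw [Imm.range_map_ι]
    exact haV
  obtain ⟨a', rfl⟩ := hr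
  suffices ha' : a'.pt ∈ T by
    have : a' ∈ An.Pts.pt ⁻¹' T := ha'
    rw [hTN] at this
    exact this
  by_contra hcon
  have hO : IsOpen (V.ι '' Tᶜ) := V.ι.isOpenEmbedding.isOpenMap _ hTcl.isOpen_compl
  obtain ⟨_, ⟨t, ht, hte⟩, n, hn, rfl⟩ := mem_closure_iff.1 ha _ hO ⟨a'.pt, hcon, (An.Pts.pt_map _ _).symm⟩
  have hnr : n ∈ Set.range (An.Pts.map V.ι) := by
    rw [Imm.range_map_ι]
    change n.pt ∈ (V : Set X)
    rw [← hte]
    exact t.2
  obtain ⟨n', rfl⟩ := hnr
  have h1 : n' ∈ An.Pts.pt ⁻¹' T := by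
    rw [hTN]
    exact hn
  have h2 : n'.pt = t := V.ι.isOpenEmbedding.injective (by rw [← An.Pts.pt_map, hte])
  exact ht (h2 ▸ h1)

/-- A closed union of strata is Zariski closed. -/
theorem exists_isClosed {N : Set (An.Pts X)} (hN : IsClosed N) (h : IsStrat N) :
    ∃ Z : Set X, IsClosed Z ∧ ∀ a : An.Pts X, a ∈ N ↔ a.pt ∈ Z :=
  ⟨closure (An.Pts.pt '' N), isClosed_closure, fun a =>
    ⟨fun ha => subset_closure ⟨a, ha, rfl⟩, mem_of_mem_closure hN h a⟩⟩

end Groth.Agent.An.H867.Strat
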