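import Mathlib.RingTheory.Spectrum.Prime.ConstructibleSet
import Mathlib.RingTheory.Ideal.MinimalPrime.Localization
import Mathlib.RingTheory.FiniteType
import Mathlib.Analysis.Complex.Basic
import Groth.Agent.An.H871.Basic

/-!
# Constructible sets and nearby complex points: the algebraic part

From the density statement for integral domains (`hclose`) we deduce: if `T` is a constructible
subset of `Spec A` and the kernel of `x₀ : A →ₐ[ℂ] ℂ` lies in the closure of `T`, then there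
are `x : A →ₐ[ℂ] ℂ` with kernel in `T` arbitrarily close to `x₀`.
-/

set_option autoImplicit false

open PrimeSpectrum Topology

namespace Groth.Agent.An.H867.Alg

/-- A point of the closure of a constructible set is a specialization of a point of the set. -/
theorem exists_specializes_of_mem_closure {A : Type*} [CommRing A] {T : Set (PrimeSpectrum A)}
    (hT : IsConstructible T) {p : PrimeSpectrum A} (hp : p ∈ closure T) :
    ∃ q ∈ T, q.asIdeal ≤ p.asIdeal := by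
  obtain ⟨S, _, f, rfl⟩ := exists_range_eq_of_isConstructible hT
  rw [closure_range_comap, mem_zeroLocus, SetLike.coe_subset_coe] at hp
  obtain ⟨q, hq, hqp⟩ := Ideal.exists_minimalPrimes_le hp
  rw [RingHom.ker_eq_comap_bot] at hq
  obtain ⟨q', hq', _, rfl⟩ := Ideal.exists_comap_eq_of_mem_minimalPrimes f (I := ⊥) q hq
  exact ⟨comap f ⟨q', hq'⟩, ⟨_, rfl⟩, hqp⟩

/-- A constructible set containing `q` contains a nonempty open subset of `V(q)`. -/
theorem exists_notMem_of_mem {A : Type*} [CommRing A] {T : Set (PrimeSpectrum A)}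
    (hT : IsConstructible T) {q : PrimeSpectrum A} (hq : q ∈ T) :
    ∃ f : A, f ∉ q.asIdeal ∧ ∀ p : PrimeSpectrum A, q.asIdeal ≤ p.asIdeal → f ∉ p.asIdeal →
      p ∈ T := by
  obtain ⟨Z, ⟨U, V, hU, hV, rfl⟩, hqZ, hZT⟩ :=
    Groth.Agent.An.H871.Basic.exists_isLocallyClosed_of_isConstructible hT hq
  obtain ⟨_, ⟨_, ⟨f, rfl⟩, rfl⟩, hqf, hfU⟩ :=
    isBasis_basic_opens.exists_subset_of_mem_open hqZ.1 hU
  refine ⟨f, hqf, fun p hqp hfp => hZT ⟨hfU hfp, ?_⟩⟩
  exact ((le_iff_specializes q p).mp hqp).mem_closed hV hqZ.2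

/-- The closeness statement for integral domains. -/
def HClose : Prop :=
  ∀ (A : Type) [CommRing A] [IsDomain A] [Algebra ℂ A] [Algebra.FiniteType ℂ A] (f : A),
    f ≠ 0 → ∀ (x₀ : A →ₐ[ℂ] ℂ) (S : Finset A) (ε : ℝ), 0 < ε →
      ∃ x : A →ₐ[ℂ] ℂ, x f ≠ 0 ∧ ∀ s ∈ S, ‖x s - x₀ s‖ < ε

/-- The prime of a ring homomorphism to `ℂ`. -/
def kerPt {A : Type*} [CommRing A] (x : A →+* ℂ) : PrimeSpectrum A :=
  ⟨RingHom.ker x, RingHom.ker_isPrime x⟩

theorem exists_close_of_mem_closure (hclose : HClose) (A : Type) [CommRing A] [Algebra ℂ A]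
    [Algebra.FiniteType ℂ A] {T : Set (PrimeSpectrum A)} (hT : IsConstructible T)
    (x₀ : A →ₐ[ℂ] ℂ) (hx₀ : kerPt (x₀ : A →+* ℂ) ∈ closure T) (S : Finset A) (ε : ℝ)
    (hε : 0 < ε) :
    ∃ x : A →ₐ[ℂ] ℂ, kerPt (x : A →+* ℂ) ∈ T ∧ ∀ s ∈ S, ‖x s - x₀ s‖ < ε := by
  classical
  obtain ⟨q, hqT, hq⟩ := exists_specializes_of_mem_closure hT hx₀
  obtain ⟨f, hfq, hf⟩ := exists_notMem_of_mem hT hqT
  let y₀ : A ⧸ q.asIdeal →ₐ[ℂ] ℂ := Ideal.Quotient.liftₐ q.asIdeal x₀ (fun a ha => hq ha)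
  obtain ⟨y, hyf, hy⟩ := hclose (A ⧸ q.asIdeal) (Ideal.Quotient.mk _ f)
    (by rwa [Ne, Ideal.Quotient.eq_zero_iff_mem]) y₀ (S.image (Ideal.Quotient.mk _)) ε hε
  refine ⟨y.comp (Ideal.Quotient.mkₐ ℂ q.asIdeal), ?_, ?_⟩
  · refine hf _ ?_ ?_
    · intro a ha
      change y (Ideal.Quotient.mk _ a) = 0
      rw [Ideal.Quotient.eq_zero_iff_mem.2 ha, map_zero]
    · intro ha
      exact hyf ha
  · intro s hs
    exact hy _ (Finset.mem_image_of_mem _ hs)

end Groth.Agent.An.H867.Alg
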