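import Groth.Agent.An.H863.PtsBasic
import Groth.Agent.An.H867.Alg
import Mathlib.AlgebraicGeometry.Noetherian

/-!
# Neighbourhoods of a complex point, read on an affine chart

* `ball U h₀ S ε`: the points `x` in `U` with `|f(x) - f(x₀)| < ε` for all `f` in the finite set `S`;
* `exists_ball_subset`: for `U` affine these form a basis of neighbourhoods of `x₀`;
* `exists_pts_of_ringHom`: a `ℂ`-algebra homomorphism `Γ(X, U) → ℂ` comes from a complex point in `U`.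
-/

set_option autoImplicit false
open CategoryTheory AlgebraicGeometry Topology TopologicalSpace Opposite

noncomputable section

namespace Groth.Agent.An.H867.Nhds

open Groth.Agent.An.H863.PtsBasic

variable {X : Scheme.{0}} [X.Over An.SC]

/-- The points `x` of `U` with `|f(x) - f(x₀)| < ε` for all `f ∈ S`. -/
def ball (x₀ : An.Pts X) (U : X.Opens) (h₀ : x₀.pt ∈ U) (S : Finset Γ(X, U)) (ε : ℝ) :
    Set (An.Pts X) :=
  {x | ∃ h : x.pt ∈ U, ∀ f ∈ S, ‖x.ev U h f - x₀.ev U h₀ f‖ < ε}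

theorem mem_ball_self (x₀ : An.Pts X) (U : X.Opens) (h₀ : x₀.pt ∈ U) (S : Finset Γ(X, U)) {ε : ℝ}
    (hε : 0 < ε) : x₀ ∈ ball x₀ U h₀ S ε :=
  ⟨h₀, fun f _ => by simpa using hε⟩

theorem ball_mono (x₀ : An.Pts X) (U : X.Opens) (h₀ : x₀.pt ∈ U) {S S' : Finset Γ(X, U)}
    (hS : S ⊆ S') {ε ε' : ℝ} (hε : ε' ≤ ε) : ball x₀ U h₀ S' ε' ⊆ ball x₀ U h₀ S ε := by
  rintro x ⟨h, hx⟩
  exact ⟨h, fun f hf => (hx f (hS hf)).trans_le hε⟩

theorem isOpen_ball (x₀ : An.Pts X) (U : X.Opens) (h₀ : x₀.pt ∈ U) (S : Finset Γ(X, U)) (ε : ℝ) :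
    IsOpen (ball x₀ U h₀ S ε) := by
  have : ball x₀ U h₀ S ε = An.Pts.pt ⁻¹' (U : Set X) ∩
      ⋂ f ∈ S, An.Pts.basicSet U f (Metric.ball (x₀.ev U h₀ f) ε) := by
    ext x
    simp only [ball, Set.mem_inter_iff, Set.mem_preimage, Set.mem_iInter]
    constructor
    · rintro ⟨h, hx⟩
      refine ⟨h, fun f hf => ⟨h, ?_⟩⟩
      rw [Metric.mem_ball, dist_eq_norm]
      exact hx f hf
    · rintro ⟨h, hx⟩
      refine ⟨h, fun f hf => ?_⟩
      obtain ⟨_, h2⟩ := hx f hf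
      rwa [Metric.mem_ball, dist_eq_norm] at h2
  rw [this]
  refine (An.Pts.isOpen_preimage_pt U).inter ?_
  exact S.finite_toSet.isOpen_biInter fun f _ => An.Pts.isOpen_basicSet U f Metric.isOpen_ball

/-- A subbasic open set containing `x₀` contains a ball in a given affine chart. -/
theorem exists_ball_subset_basicSet (x₀ : An.Pts X) (U : X.Opens) (hU : IsAffineOpen U)
    (h₀ : x₀.pt ∈ U) (U' : X.Opens) (f : Γ(X, U')) {V : Set ℂ} (hV : IsOpen V)
    (hx₀ : x₀ ∈ An.Pts.basicSet U' f V) :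
    ∃ (S : Finset Γ(X, U)) (ε : ℝ), 0 < ε ∧ ball x₀ U h₀ S ε ⊆ An.Pts.basicSet U' f V := by
  classical
  obtain ⟨h', hfV⟩ := hx₀
  obtain ⟨g, hgU', hg⟩ := hU.exists_basicOpen_le ⟨x₀.pt, h'⟩ h₀
  change x₀.pt ∈ X.basicOpen g at hg
  have := hU.isLocalization_basicOpen g
  obtain ⟨n, a, ha⟩ := IsLocalization.Away.surj g (X.presheaf.map (homOfLE hgU').op f)
  -- on `D(g)`: `f = a / g ^ n`
  have key : ∀ (x : An.Pts X) (hx : x.pt ∈ U) (hxg : x.pt ∈ X.basicOpen g),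
      x.ev U hx g ^ n * x.ev U' (hgU' hxg) f = x.ev U hx a := by
    intro x hx hxg
    have h1 : ∀ b : Γ(X, U), x.ev (X.basicOpen g) hxg (algebraMap Γ(X, U) Γ(X, X.basicOpen g) b) =
        x.ev U hx b := fun b => ev_res x (X.basicOpen_le g) hxg b
    have h2 := congr(x.ev (X.basicOpen g) hxg $ha)
    rw [ev_mul, ← map_pow, h1, h1, ev_pow, ev_res x hgU' hxg f] at h2
    rw [← h2, mul_comm]
  have hg0 : x₀.ev U h₀ g ≠ 0 := (ev_ne_zero_iff x₀ U h₀ g).2 hg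
  have hcont : ContinuousAt (fun q : ℂ × ℂ => q.2 / q.1 ^ n) (x₀.ev U h₀ g, x₀.ev U h₀ a) := by
    refine ContinuousAt.div continuousAt_snd (continuousAt_fst.pow n) ?_
    exact pow_ne_zero n hg0
  have hval : x₀.ev U h₀ a / x₀.ev U h₀ g ^ n = x₀.ev U' h' f := by
    rw [← key x₀ h₀ hg]
    field_simp
  have hopen : {q : ℂ × ℂ | q.1 ≠ 0 ∧ q.2 / q.1 ^ n ∈ V} ∈ 𝓝 (x₀.ev U h₀ g, x₀.ev U h₀ a) := by
    refine Filter.inter_mem ?_ ?_
    · have h1 : ContinuousAt (Prod.fst : ℂ × ℂ → ℂ) (x₀.ev U h₀ g, x₀.ev U h₀ a) :=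
        continuousAt_fst
      exact h1.preimage_mem_nhds (isOpen_ne.mem_nhds hg0)
    · refine hcont.preimage_mem_nhds (hV.mem_nhds ?_)
      change x₀.ev U h₀ a / x₀.ev U h₀ g ^ n ∈ V
      rw [hval]; exact hfV
  obtain ⟨ε, hε, hball⟩ := Metric.mem_nhds_iff.1 hopen
  refine ⟨{g, a}, ε, hε, ?_⟩
  rintro x ⟨hx, hxS⟩
  have hxg := hxS g (by simp)
  have hxa := hxS a (by simp)
  have hmem : (x.ev U hx g, x.ev U hx a) ∈ Metric.ball (x₀.ev U h₀ g, x₀.ev U h₀ a) ε := by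
    rw [Metric.mem_ball, Prod.dist_eq, max_lt_iff, dist_eq_norm, dist_eq_norm]
    exact ⟨hxg, hxa⟩
  obtain ⟨hne, hV'⟩ := hball hmem
  have hxD : x.pt ∈ X.basicOpen g := (ev_ne_zero_iff x U hx g).1 hne
  refine ⟨hgU' hxD, ?_⟩
  have : x.ev U' (hgU' hxD) f = x.ev U hx a / x.ev U hx g ^ n := by
    rw [← key x hx hxD]
    field_simp
  rw [this]
  exact hV'

/-- The balls in an affine chart form a basis of neighbourhoods of `x₀`. -/
theorem exists_ball_subset (x₀ : An.Pts X) (U : X.Opens) (hU : IsAffineOpen U)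
    (h₀ : x₀.pt ∈ U) {W : Set (An.Pts X)} (hW : W ∈ 𝓝 x₀) :
    ∃ (S : Finset Γ(X, U)) (ε : ℝ), 0 < ε ∧ ball x₀ U h₀ S ε ⊆ W := by
  classical
  obtain ⟨O, hOW, hO, hxO⟩ := mem_nhds_iff.1 hW
  suffices ∃ (S : Finset Γ(X, U)) (ε : ℝ), 0 < ε ∧ ball x₀ U h₀ S ε ⊆ O by
    obtain ⟨S, ε, hε, h⟩ := this
    exact ⟨S, ε, hε, h.trans hOW⟩
  clear hOW hW
  change GenerateOpen _ O at hO
  induction hO with
  | basic s hs =>
    obtain ⟨U', f, V, hV, rfl⟩ := hs
    exact exists_ball_subset_basicSet x₀ U hU h₀ U' f hV hxO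
  | univ => exact ⟨∅, 1, one_pos, Set.subset_univ _⟩
  | inter s t _ _ hs ht =>
    obtain ⟨S, ε, hε, h⟩ := hs hxO.1
    obtain ⟨S', ε', hε', h'⟩ := ht hxO.2
    refine ⟨S ∪ S', min ε ε', lt_min hε hε', Set.subset_inter ?_ ?_⟩
    · exact (ball_mono x₀ U h₀ Finset.subset_union_left (min_le_left _ _)).trans h
    · exact (ball_mono x₀ U h₀ Finset.subset_union_right (min_le_right _ _)).trans h'
  | sUnion C _ hC =>
    obtain ⟨s, hs, hxs⟩ := hxO
    obtain ⟨S, ε, hε, h⟩ := hC s hs hxs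
    exact ⟨S, ε, hε, h.trans (Set.subset_sUnion_of_mem hs)⟩

theorem hasBasis_nhds (x₀ : An.Pts X) (U : X.Opens) (hU : IsAffineOpen U) (h₀ : x₀.pt ∈ U) :
    (𝓝 x₀).HasBasis (fun p : Finset Γ(X, U) × ℝ => 0 < p.2)
      (fun p => ball x₀ U h₀ p.1 p.2) := by
  refine Filter.hasBasis_iff.2 fun W => ⟨fun hW => ?_, ?_⟩
  · obtain ⟨S, ε, hε, h⟩ := exists_ball_subset x₀ U hU h₀ hW
    exact ⟨(S, ε), hε, h⟩
  · rintro ⟨⟨S, ε⟩, hε, h⟩
    exact Filter.mem_of_superset ((isOpen_ball x₀ U h₀ S ε).mem_nhds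
      (mem_ball_self x₀ U h₀ S hε)) h

/-- The evaluation at a point of `U` as an algebra homomorphism, for the structure `strU U`. -/
theorem evHom_comp_strU (x : An.Pts X) (U : X.Opens) (h : x.pt ∈ U) :
    (evHom x U h).comp (strU U) = RingHom.id ℂ := by
  ext c
  exact ev_strU x U h c

/-- The underlying point of `x` in the chart `U` corresponds to the kernel of the evaluation. -/
theorem fromSpec_kerPt (x : An.Pts X) (U : X.Opens) (hU : IsAffineOpen U) (h : x.pt ∈ U) :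
    hU.fromSpec (Alg.kerPt (evHom x U h)) = x.pt := by
  obtain ⟨p, hp⟩ : x.pt ∈ Set.range hU.fromSpec := by rw [hU.range_fromSpec]; exact h
  rw [← hp]
  congr 1
  refine PrimeSpectrum.ext (Ideal.ext fun f => ?_)
  change evHom x U h f = 0 ↔ _
  rw [evHom_apply, ev_eq_zero_iff, ← hp]
  have h2 := hU.fromSpec_preimage_basicOpen f
  have h3 : hU.fromSpec p ∈ X.basicOpen f ↔ f ∉ p.asIdeal := by
    change p ∈ hU.fromSpec ⁻¹ᵁ X.basicOpen f ↔ p ∈ PrimeSpectrum.basicOpen f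
    rw [h2]
    rfl
  rw [h3, not_not]

/-- A homomorphism `Γ(X, U) → ℂ` of `ℂ`-algebras comes from a complex point in `U`. -/
theorem exists_pts_of_ringHom [LocallyOfFiniteType (X ↘ An.SC)] (U : X.Opens)
    (hU : IsAffineOpen U) (φ : Γ(X, U) →+* ℂ) (hφ : ∀ c, φ (strU U c) = c) :
    ∃ (x : An.Pts X) (h : x.pt ∈ U), evHom x U h = φ := by
  -- the point of `X` given by the kernel
  let p : X := hU.fromSpec (Alg.kerPt φ)
  have hpU : p ∈ U := by
    have : p ∈ Set.range hU.fromSpec := ⟨_, rfl⟩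
    rwa [hU.range_fromSpec] at this
  have hsurj : Function.Surjective φ := fun c => ⟨strU U c, hφ c⟩
  have hpc : IsClosed ({p} : Set X) := by
    have := jacobsonSpace X
    have hcl : (Alg.kerPt φ : Spec Γ(X, U)) ∈ closedPoints (Spec Γ(X, U)) := by
      refine (PrimeSpectrum.isClosed_singleton_iff_isMaximal _).2 ?_
      exact RingHom.ker_isMaximal_of_surjective φ hsurj
    have h2 := hU.fromSpec.isOpenEmbedding.preimage_closedPoints
    have h3 : (Alg.kerPt φ : Spec Γ(X, U)) ∈ hU.fromSpec ⁻¹' closedPoints X := by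
      rw [h2]; exact hcl
    exact h3
  obtain ⟨x, hx⟩ := exists_pt_eq p hpc
  have hxU : x.pt ∈ U := by rw [hx]; exact hpU
  refine ⟨x, hxU, ?_⟩
  have hz : ∀ f, x.ev U hxU f = 0 ↔ φ f = 0 := by
    intro f
    have h1 := fromSpec_kerPt x U hU hxU
    rw [hx] at h1
    have h2 : Alg.kerPt (evHom x U hxU) = Alg.kerPt φ := hU.fromSpec.isOpenEmbedding.injective h1
    have h3 : f ∈ (Alg.kerPt (evHom x U hxU)).asIdeal ↔ f ∈ (Alg.kerPt φ).asIdeal := by rw [h2]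
    exact h3
  ext f
  have h4 : φ (f - strU U (φ f)) = 0 := by rw [map_sub, hφ, sub_self]
  have h5 := (hz _).2 h4
  rw [ev_sub, ev_strU, sub_eq_zero] at h5
  exact h5

/-- The ring of functions on an affine open is of finite type over `ℂ`. -/
theorem finiteType_strU [LocallyOfFiniteType (X ↘ An.SC)] (U : X.Opens) (hU : IsAffineOpen U) :
    (strU U).FiniteType := by
  have h1 : ((X ↘ An.SC).appLE ⊤ U (by simp)).hom.FiniteType :=
    LocallyOfFiniteType.finiteType_appLE (X ↘ An.SC) (isAffineOpen_top _) hU (by simp)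
  have h2 : (Scheme.ΓSpecIso (CommRingCat.of ℂ)).inv.hom.FiniteType :=
    RingHom.FiniteType.of_surjective _
      (ConcreteCategory.bijective_of_isIso (Scheme.ΓSpecIso (CommRingCat.of ℂ)).inv).2
  have h3 := h1.comp h2
  have h4 : (((X ↘ An.SC).appLE ⊤ U (by simp)).hom.comp
      (Scheme.ΓSpecIso (CommRingCat.of ℂ)).inv.hom) = strU U := rfl
  rwa [h4] at h3

end Groth.Agent.An.H867.Nhds
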