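import Groth.Agent.An.H867.T2b
import Groth.Agent.An.H866.T2Defs
import Groth.Agent.An.H888.Dies

/-!
# Lifting sections of a quotient in `Acal`

`epi_epsPush_map`: if `φ : A → Q` is an epimorphism of sheaves on `X(ℂ)`, germs of `A` extend to étale
neighbourhoods (`ExtGerms`) and `Q` is in `Acal`, then `ε_* φ` is an epimorphism.
-/

set_option autoImplicit false

open CategoryTheory CategoryTheory.Limits AlgebraicGeometry TopologicalSpace Topology Opposite

noncomputable section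

namespace Groth.Agent.An.H867.T2bLift

open Groth.Agent.An.H867.T2b Groth.Agent.An.H866.T2Defs
open Groth.Agent.An.H886.EtSpace (GEq GEq.of_res GEq.trans GEq.symm)

theorem acal_iff (X : Scheme.{0}) [X.Over An.SC] (G : An.Cl.Ab (An.Pts X)) :
    Groth.Agent.An.H866.T2Defs.Acal X G ↔ Groth.Agent.An.H867.AcalDef.Acal X G := Iff.rfl

section Cl

variable {T : Type} [TopologicalSpace T]

theorem res_eq {G : An.Cl.Ab T} {A B : An.Cl T} (g : B ⟶ A) (s : An.Cl.sect G A) :
    Groth.Agent.An.H885.ClPoint.res G g s = Groth.Agent.An.H886.EtSpace.res G g s := rfl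

/-- Images of equal germs. -/
theorem GEq.map {A Q : An.Cl.Ab T} (φ : A ⟶ Q) {B B' : An.Cl T} {b : B.E} {b' : B'.E}
    {s : An.Cl.sect A B} {s' : An.Cl.sect A B'} (h : GEq A b b' s s') :
    GEq Q b b' (φ.hom.app (op B) s) (φ.hom.app (op B') s') := by
  obtain ⟨C, f, f', c, h1, h2, h3⟩ := h
  refine ⟨C, f, f', c, h1, h2, ?_⟩
  have e1 := Groth.Agent.An.H885.ClPoint.res_naturality φ f s
  have e2 := Groth.Agent.An.H885.ClPoint.res_naturality φ f' s'
  refine Eq.trans e1 (Eq.trans ?_ e2.symm)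
  exact congrArg (φ.hom.app (op C)) h3

/-- Epimorphisms are locally surjective. -/
theorem exists_lift_of_epi {A Q : An.Cl.Ab T} (φ : A ⟶ Q) [Epi φ] {B : An.Cl T}
    (s : An.Cl.sect Q B) (b : B.E) :
    ∃ (C : An.Cl T) (g : C ⟶ B) (c : C.E) (α : An.Cl.sect A C), g.toFun c = b ∧
      φ.hom.app (op C) α = Groth.Agent.An.H885.ClPoint.res Q g s := by
  have hφ : Epi φ := inferInstance
  rw [← Sheaf.isLocallySurjective_iff_epi'] at hφ
  have h := hφ.imageSieve_mem s
  obtain ⟨C, g, c, ⟨α, hα⟩, hc⟩ := (Groth.Agent.An.H885.ClPoint.mem_topology_iff _).1 h b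
  exact ⟨C, g, c, α, hc, hα⟩

theorem van_sub_iff {G : An.Cl.Ab T} {B : An.Cl T} {b : B.E} {s s' : An.Cl.sect G B}
    (h : GEq G b b s s') : Van G (s - s') b := by
  obtain ⟨C, f, c, h1, h2⟩ := Groth.Agent.An.H886.EtSpace.GEq.exists_res h
  refine ⟨C, f, c, h1, ?_⟩
  rw [map_sub]
  exact sub_eq_zero.2 h2

end Cl

variable {X : Scheme.{0}} [X.Over An.SC] [LocallyOfFiniteType (X ↘ An.SC)] [Fact An.EtaleLH]

/-- **Lifting.** -/
theorem exists_lift {A Q : An.Cl.Ab (An.Pts X)} (φ : A ⟶ Q) [Epi φ] (hA : ExtGerms X A)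
    (hQ : Groth.Agent.An.H867.AcalDef.Acal X Q) (U : X.Etale)
    (t : An.Cl.sect Q ((An.eps X).obj U)) (a : An.Pts U.left) :
    ∃ (V : X.Etale) (g : V ⟶ U) (v : An.Pts V.left) (α : An.Cl.sect A ((An.eps X).obj V)),
      An.Pts.map (X := V.left) (Y := U.left) g.left v = a ∧
        φ.hom.app (op ((An.eps X).obj V)) α =
          Groth.Agent.An.H885.ClPoint.res Q ((An.eps X).map g) t := by
  obtain ⟨B, k, b, β, hb, hβ⟩ := exists_lift_of_epi φ t a
  obtain ⟨V, g, v, α, hv, hα⟩ := hA U B k b β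
  have h1 : GEq Q b v (Groth.Agent.An.H885.ClPoint.res Q k t)
      (φ.hom.app (op ((An.eps X).obj V)) α) := by
    rw [← hβ]
    exact GEq.map φ hα
  have h2 : GEq Q (k.toFun b) b t (Groth.Agent.An.H885.ClPoint.res Q k t) := GEq.of_res k b t
  have h3 : GEq Q (((An.eps X).map g).toFun v) v t
      (Groth.Agent.An.H885.ClPoint.res Q ((An.eps X).map g) t) := GEq.of_res _ v t
  rw [hv] at h3
  have h4 : GEq Q v v (Groth.Agent.An.H885.ClPoint.res Q ((An.eps X).map g) t)
      (φ.hom.app (op ((An.eps X).obj V)) α) := (h3.symm.trans h2).trans h1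
  have h5 := van_sub_iff h4
  obtain ⟨Z, hZ, hZ'⟩ := exists_closed_support hQ V
    (Groth.Agent.An.H885.ClPoint.res Q ((An.eps X).map g) t -
      φ.hom.app (op ((An.eps X).obj V)) α)
  let O : V.left.Opens := ⟨Zᶜ, hZ.isOpen_compl⟩
  have hV : Etale V.hom := V.prop
  have hO : Etale (O.ι ≫ V.hom) := inferInstance
  let W : X.Etale := MorphismProperty.Over.mk ⊤ (O.ι ≫ V.hom) hO
  let w : W ⟶ V := MorphismProperty.Over.homMk O.ι rfl trivial
  have hvO : An.Pts.pt (X := V.left) v ∉ Z := (hZ' v).1 h5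
  obtain ⟨v', hv', -⟩ := Groth.Agent.An.H885.EpsGerm.exists_pts_lift X w v
    (⟨An.Pts.pt (X := V.left) v, hvO⟩ : O) rfl
  have h6 : Groth.Agent.An.H885.ClPoint.res Q ((An.eps X).map w)
      (Groth.Agent.An.H885.ClPoint.res Q ((An.eps X).map g) t -
        φ.hom.app (op ((An.eps X).obj V)) α) = 0 := by
    apply eq_zero_of_van
    intro x
    rw [van_res]
    refine (hZ' _).2 ?_
    have h7 : An.Pts.pt (X := V.left) (An.Pts.map (X := W.left) (Y := V.left) w.left x) =
      w.left (An.Pts.pt (X := W.left) x) := An.Pts.pt_map (X := W.left) (Y := V.left) w.left x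
    have h8 : w.left (An.Pts.pt (X := W.left) x) ∈ Zᶜ := (An.Pts.pt (X := W.left) x : O).2
    exact fun hx => h8 (h7 ▸ hx)
  refine ⟨W, w ≫ g, v', Groth.Agent.An.H885.ClPoint.res A ((An.eps X).map w) α, ?_, ?_⟩
  · have h9 : An.Pts.map (X := V.left) (Y := U.left) g.left v = a := hv.trans hb
    rw [← h9, ← hv']
    exact Subtype.ext (by
      change v'.1 ≫ (w ≫ g).left = (v'.1 ≫ w.left) ≫ g.left
      rw [Category.assoc]
      rfl)
  · rw [map_sub, sub_eq_zero] at h6
    rw [CategoryTheory.Functor.map_comp, Groth.Agent.An.H885.ClPoint.res_comp, h6]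
    exact (Groth.Agent.An.H885.ClPoint.res_naturality φ _ α).symm

/-- **`ε_* φ` is an epimorphism.** -/
theorem epi_epsPush_map [An.EpsCont X] {A Q : An.Cl.Ab (An.Pts X)} (φ : A ⟶ Q) [Epi φ]
    (hA : ExtGerms X A) (hQ : Groth.Agent.An.H867.AcalDef.Acal X Q) :
    Epi ((An.epsPush X).map φ) := by
  rw [← Sheaf.isLocallySurjective_iff_epi']
  constructor
  intro U t
  refine Groth.Agent.An.H888.Dies.mem_smallEtale_of_pts X _ fun a => ?_
  obtain ⟨V, g, v, α, hv, hα⟩ := exists_lift φ hA hQ U t a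
  exact ⟨V, g, v, hv, α, hα⟩

/-- The same with the definition of `H866.T2Defs`. -/
theorem epi_epsPush_map' [An.EpsCont X] {A Q : An.Cl.Ab (An.Pts X)} (φ : A ⟶ Q) [Epi φ]
    (hA : ExtGerms X A) (hQ : Groth.Agent.An.H866.T2Defs.Acal X Q) :
    Epi ((An.epsPush X).map φ) :=
  epi_epsPush_map φ hA ((acal_iff X Q).1 hQ)

end Groth.Agent.An.H867.T2bLift
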