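import Groth.Agent.An.H890.Theta
import Groth.Agent.An.H882.FinPush
import Groth.Agent.An.H884.ClPush
import Groth.Agent.An.H863.PtsSep
import Groth.Agent.An.H875.ProperMap
import Groth.Agent.An.H876.QuasiFinite
import Groth.Agent.Sga4A.IntegralSection
import Groth.Agent.Sga4h.RDExact
import Mathlib.CategoryTheory.Preadditive.Injective.Basic

/-!
# `R^q ε_*` and finite direct images

`epsRpush_pushCl_iso`: for `ρ : S' → S` finite, `R^q ε_{S*} (ρ_* G) ≅ ρ_* R^q ε_{S'*} G`.
-/

set_option autoImplicit false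

open CategoryTheory CategoryTheory.Limits AlgebraicGeometry TopologicalSpace Topology Opposite

noncomputable section

namespace Groth.Agent.An.H867.T2d

open Groth.Agent.An.H890.ULiftSite Groth.Agent.An.H890.Theta Groth.Agent.An.H884.ClBC

section Finite

variable {S' S : Scheme.{0}} [S'.Over An.SC] [S.Over An.SC] (ρ : S' ⟶ S) [ρ.IsOver An.SC]
  [IsFinite ρ] [LocallyOfFiniteType (S' ↘ An.SC)] [LocallyOfFiniteType (S ↘ An.SC)]

omit [LocallyOfFiniteType (S' ↘ An.SC)] [LocallyOfFiniteType (S ↘ An.SC)] in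
theorem isClosedMap_map : IsClosedMap (An.Pts.mapC ρ) :=
  (Groth.Agent.An.H875.ProperMap.isProperMap_map ρ).isClosedMap

omit [LocallyOfFiniteType (S' ↘ An.SC)] [LocallyOfFiniteType (S ↘ An.SC)] in
theorem isSeparatedMap_map : IsSeparatedMap (An.Pts.mapC ρ) :=
  Groth.Agent.An.H863.PtsSep.isSeparatedMap_of_isSeparated ρ

theorem finite_fibre (s : An.Pts S) : (An.Pts.mapC ρ ⁻¹' {s}).Finite :=
  Groth.Agent.An.H876.QuasiFinite.finite_of_locallyQuasiFinite ρ s

instance preservesFiniteColimits_pushCl :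
    PreservesFiniteColimits (pushCl (An.Pts.mapC ρ)) :=
  Groth.Agent.An.H882.FinPush.preservesFiniteColimits_push (An.Pts.mapC ρ) (isClosedMap_map ρ)
    (isSeparatedMap_map ρ) (finite_fibre ρ)

instance preservesFiniteLimits_pushCl :
    PreservesFiniteLimits (pushCl (An.Pts.mapC ρ)) :=
  Groth.Agent.An.H882.FinPush.preservesFiniteLimits_push (An.Pts.mapC ρ)

omit [IsFinite ρ] [LocallyOfFiniteType (S' ↘ An.SC)] [LocallyOfFiniteType (S ↘ An.SC)] in
theorem injective_pushCl (I : An.Cl.Ab (An.Pts S')) (hI : Injective I) :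
    Injective ((pushCl (An.Pts.mapC ρ)).obj I) := by
  have h := Groth.Agent.An.H884.ClPush.clPull_preservesFiniteLimits (An.Pts.mapC ρ)
  have : PreservesFiniteLimits (pullCl (An.Pts.mapC ρ)) := h
  have : (pullCl (An.Pts.mapC ρ)).PreservesMonomorphisms := inferInstance
  exact Injective.injective_of_adjoint (adjCl (An.Pts.mapC ρ)) I

variable [Fact An.EtaleLH] [An.EpsCont S'] [An.EpsCont S]

/-- `R^q ε_{S*} (ρ_* G) ≅ ρ_* R^q ε_{S'*} G` for `ρ` finite. -/
def epsRpushIso (q : ℕ) :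
    pushCl (An.Pts.mapC ρ) ⋙ An.epsRpush S q ≅ An.epsRpush S' q ⋙ EtCoh.push ρ := by
  have : PreservesFiniteColimits (EtCoh.push ρ) :=
    Groth.Agent.Sga4A.EtSplit.preservesFiniteColimits_push ρ
  have : PreservesFiniteLimits (EtCoh.push ρ) := inferInstance
  exact (Groth.Agent.Sga4h.RDExact.preIso (pushCl (An.Pts.mapC ρ)) (An.epsPush S)
      (injective_pushCl ρ) q).symm ≪≫
    Groth.Agent.Sga4h.RDExact.congrIso (gamma ρ).symm q ≪≫
    Groth.Agent.Sga4h.RDExact.postIso (An.epsPush S') (EtCoh.push ρ) q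

/-- **(T2-D)** -/
theorem isZero_epsRpush_pushCl (G : An.Cl.Ab (An.Pts S')) {q : ℕ}
    (h : IsZero ((An.epsRpush S' q).obj G)) :
    IsZero ((An.epsRpush S q).obj ((pushCl (An.Pts.mapC ρ)).obj G)) :=
  IsZero.of_iso ((EtCoh.push ρ).map_isZero h) ((epsRpushIso ρ q).app G)

end Finite

end Groth.Agent.An.H867.T2d
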