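import Groth.Prelude.Def_AnEps
import Groth.Agent.An.H889.OCoh
import Groth.Agent.An.H885.ClPoint

/-!
# The class `Acal` of sheaves on `X(ℂ)` which are locally constant along Zariski strata

* `clPab G`: the presheaf of groups on the opens of `T` of a sheaf `G` on the classical site;
* `Acal S G`: along every irreducible closed `Z ⊆ S` there is a nonempty open piece of `Z` along which `G` is
  locally constant with finite stalks (helper889).
-/

set_option autoImplicit false

open CategoryTheory AlgebraicGeometry TopologicalSpace Opposite

noncomputable section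

namespace Groth.Agent.An.H867.AcalDef

open Groth.Agent.An.H889.OCoh Groth.Agent.An.H885.ClPoint

/-- The presheaf of sections over the opens of the space. -/
def clPab {T : Type} [TopologicalSpace T] (G : An.Cl.Ab T) : PAb.{1} T where
  F V := An.Cl.sect G ((An.opensToCl T).obj V)
  res h := res G ((An.opensToCl T).map (homOfLE h))
  res_self _ a := res_id G a
  res_res h k a := (res_comp G ((An.opensToCl T).map (homOfLE h))
    ((An.opensToCl T).map (homOfLE k)) a).symm

@[simp] theorem clPab_F {T : Type} [TopologicalSpace T] (G : An.Cl.Ab T) (V : Opens T) :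
    (clPab G).F V = An.Cl.sect G ((An.opensToCl T).obj V) := rfl

theorem clPab_res {T : Type} [TopologicalSpace T] (G : An.Cl.Ab T) {U V : Opens T} (h : V ≤ U)
    (a : (clPab G).F U) :
    (clPab G).res h a = res G ((An.opensToCl T).map (homOfLE h)) a := rfl

/-- `G` is locally constant with finite stalks along a nonempty open piece of every irreducible
closed subset of `S`. -/
def Acal (S : Scheme.{0}) [S.Over An.SC] (G : An.Cl.Ab (An.Pts S)) : Prop :=
  ∀ Z : Set S, IsClosed Z → IsIrreducible Z → ∃ U : S.Opens, (Z ∩ U).Nonempty ∧
    ∀ z : An.Pts S, z.pt ∈ U → z.pt ∈ Z → (clPab G).LCat (An.Pts.pt ⁻¹' Z) z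

end Groth.Agent.An.H867.AcalDef
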