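import Groth.Agent.An.H877.Val
import Groth.Agent.An.H882.FinPush
import Groth.Agent.An.H890.ULiftSite
import Mathlib.Topology.LocallyConstant.Algebra

/-!
# Sections of constant sheaves on the classical site are locally constant functions

* `value s a`: the value of a section `s` of `const T M` over `A` at `a : A.E`;
* `exists_section`: every locally constant function is the value function of a section;
* `mapOfFun`: maps `G ⟶ r_* (const T₁ M)` from natural families of locally constant functions.
-/

set_option autoImplicit false
open CategoryTheory CategoryTheory.Limits TopologicalSpace Topology Opposite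

noncomputable section

namespace Groth.Agent.An.H867.ConstSect

open Groth.Agent.An.H885.ClPoint Groth.Agent.An.H885.ClConst Groth.Agent.An.H877.Val
open Groth.Agent.An.H884.ClBC Groth.Agent.An.H890.ULiftSite

variable {T : Type} [TopologicalSpace T] {M : Type} [AddCommGroup M]

/-- The map to the terminal object. -/
def toSelf (A : An.Cl T) : A ⟶ An.Cl.self T := ⟨A.p, A.lh.continuous, fun _ => rfl⟩

theorem comp_toSelf {A B : An.Cl T} (g : B ⟶ A) : g ≫ toSelf A = toSelf B :=
  An.Cl.hom_ext (funext fun b => g.over b)

/-- The value of a section of a constant sheaf. -/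
def value {A : An.Cl T} (s : An.Cl.sect (An.Cl.const T M) A) (a : A.E) : M :=
  val (isConstVia_constSec M (An.Cl.self T)) (toSelf A) s a

theorem value_res {A B : An.Cl T} (g : B ⟶ A) (s : An.Cl.sect (An.Cl.const T M) A) (b : B.E) :
    value (res (An.Cl.const T M) g s) b = value s (g.toFun b) := by
  have h := val_res (isConstVia_constSec M (An.Cl.self T)) (toSelf A) s g b
  rw [comp_toSelf] at h
  exact h

theorem value_add {A : An.Cl T} (s s' : An.Cl.sect (An.Cl.const T M) A) (a : A.E) :
    value (s + s') a = value s a + value s' a :=
  val_add _ _ s s' a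

theorem value_sub {A : An.Cl T} (s s' : An.Cl.sect (An.Cl.const T M) A) (a : A.E) :
    value (s - s') a = value s a - value s' a :=
  val_sub _ _ s s' a

@[simp] theorem value_zero {A : An.Cl T} (a : A.E) :
    value (0 : An.Cl.sect (An.Cl.const T M) A) a = 0 :=
  val_zero _ _ a

theorem value_constSec {A : An.Cl T} (m : M) (a : A.E) : value (constSec M A m) a = m := by
  have h := val_const (isConstVia_constSec M (An.Cl.self T)) (toSelf A) m a
  rw [res_constSec] at h
  exact h

theorem ext_of_value {A : An.Cl T} {s s' : An.Cl.sect (An.Cl.const T M) A}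
    (h : ∀ a, value s a = value s' a) : s = s' :=
  ext_of_val _ _ h

theorem isLocallyConstant_value {A : An.Cl T} (s : An.Cl.sect (An.Cl.const T M) A) :
    IsLocallyConstant (value s) :=
  isLocallyConstant_val (isConstVia_constSec M (An.Cl.self T)) (toSelf A) s

/-- Every locally constant function comes from a section. -/
theorem exists_section {A : An.Cl T} {f : A.E → M} (hf : IsLocallyConstant f) :
    ∃ s : An.Cl.sect (An.Cl.const T M) A, ∀ a, value s a = f a := by
  have hU : ∀ m : M, IsOpen (f ⁻¹' {m}) := fun m => hf {m}
  obtain ⟨z, hz⟩ := Groth.Agent.An.H882.FinPush.exists_glue_disjoint (An.Cl.const T M)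
    (A := A) (ι := M) (fun m => f ⁻¹' {m}) hU
    (fun a => ⟨f a, rfl⟩)
    (fun i j hij => Set.disjoint_left.2 fun a ha hb => hij (ha.symm.trans hb))
    (fun m => constSec M _ m)
  refine ⟨z, fun a => ?_⟩
  have h1 := value_res (A.restrictOpenι (f ⁻¹' {f a}) (hU (f a))) z ⟨a, rfl⟩
  have h2 : res (An.Cl.const T M) (A.restrictOpenι (f ⁻¹' {f a}) (hU (f a))) z =
      constSec M _ (f a) := hz (f a)
  have h3 := congrArg (fun t => value t (⟨a, rfl⟩ : (A.restrictOpen (f ⁻¹' {f a}) (hU (f a))).E)) h2
  exact h1.symm.trans (h3.trans (value_constSec (f a) _))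

/-- The section with a given value function. -/
def mk {A : An.Cl T} (f : A.E → M) (hf : IsLocallyConstant f) :
    An.Cl.sect (An.Cl.const T M) A := (exists_section hf).choose

@[simp] theorem value_mk {A : An.Cl T} (f : A.E → M) (hf : IsLocallyConstant f) (a : A.E) :
    value (mk f hf) a = f a := (exists_section hf).choose_spec a

/-- Sections of a constant sheaf are locally constant functions. -/
def equiv (A : An.Cl T) : An.Cl.sect (An.Cl.const T M) A ≃+ LocallyConstant A.E M where
  toFun s := ⟨value s, isLocallyConstant_value s⟩
  invFun f := mk f f.2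
  left_inv _ := ext_of_value fun a => value_mk _ _ a
  right_inv _ := LocallyConstant.ext fun a => value_mk _ _ a
  map_add' s s' := LocallyConstant.ext fun a => value_add s s' a

section Map

variable {T₁ : Type} [TopologicalSpace T₁] (r : C(T₁, T)) (G : An.Cl.Ab T)
  (f : ∀ A : An.Cl T, An.Cl.sect G A →+ (((clBC r).obj A).E → M))
  (hf : ∀ A s, IsLocallyConstant (f A s))
  (hnat : ∀ (A B : An.Cl T) (g : B ⟶ A) (s : An.Cl.sect G A) (q : ((clBC r).obj B).E),
    f B (res G g s) q = f A s (((clBC r).map g).toFun q))

include hnat in
/-- The map `G ⟶ r_* M` defined by a natural family of locally constant functions. -/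
def mapOfFun : G ⟶ (pushCl r).obj (An.Cl.const T₁ M) where
  hom :=
    { app := fun A => AddCommGrpCat.ofHom
        (AddMonoidHom.mk' (fun s => (mk (f A.unop s) (hf A.unop s) :
          An.Cl.sect (An.Cl.const T₁ M) ((clBC r).obj A.unop))) (fun s s' =>
            ext_of_value fun q => by
              rw [value_mk, value_add, value_mk, value_mk, map_add]
              rfl))
      naturality := fun A B g => by
        ext s
        refine ext_of_value (A := (clBC r).obj B.unop) fun q => ?_
        have h1 := value_mk (f B.unop (res G g.unop s)) (hf B.unop (res G g.unop s)) q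
        have h2 := value_res ((clBC r).map g.unop) (mk (f A.unop s) (hf A.unop s)) q
        rw [value_mk] at h2
        exact h1.trans ((hnat _ _ g.unop s q).trans h2.symm) }

theorem value_mapOfFun (A : An.Cl T) (s : An.Cl.sect G A) (q : ((clBC r).obj A).E) :
    value (A := (clBC r).obj A) ((mapOfFun r G f hf hnat).hom.app (op A) s) q = f A s q :=
  value_mk (f A s) (hf A s) q

theorem mapOfFun_eq_zero {A : An.Cl T} {s : An.Cl.sect G A}
    (h : (mapOfFun r G f hf hnat).hom.app (op A) s = 0) (q : ((clBC r).obj A).E) :
    f A s q = 0 := by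
  rw [← value_mapOfFun r G f hf hnat A s q]
  have h1 := congrArg (fun t : An.Cl.sect (An.Cl.const T₁ M) ((clBC r).obj A) =>
    value (A := (clBC r).obj A) t q) h
  exact h1.trans (value_zero (A := (clBC r).obj A) q)

end Map

end Groth.Agent.An.H867.ConstSect
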