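import Mathlib.Topology.KrullDimension
import Groth.Agent.Desc.LQF
import Mathlib.Topology.Sober

/-!
# Dimension and locally quasi-finite morphisms

`dim_le`: if `f : X ⟶ Y` is locally quasi-finite then `dim X ≤ dim Y`.
-/

set_option autoImplicit false
universe u

open CategoryTheory AlgebraicGeometry TopologicalSpace Topology

namespace Groth.Agent.An.H867.QfDim

/-- A strictly monotone map for the specialization order bounds the Krull dimension. -/
theorem krullDim_le_topologicalKrullDim {Y X : Type*} [Preorder Y] [TopologicalSpace X] (g : Y → X)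
    (h : ∀ a b, a < b → g a ⤳ g b ∧ ¬ g b ⤳ g a) :
    Order.krullDim Y ≤ topologicalKrullDim X := by
  rw [topologicalKrullDim, ← Order.krullDim_orderDual (α := IrreducibleCloseds X)]
  let φ : Y → (IrreducibleCloseds X)ᵒᵈ := fun y => OrderDual.toDual
    ⟨closure {g y}, isIrreducible_singleton.closure, isClosed_closure⟩
  refine Order.krullDim_le_of_strictMono φ ?_
  intro a b hab
  obtain ⟨h1, h2⟩ := h a b hab
  rw [specializes_iff_mem_closure] at h1 h2
  change (⟨closure {g b}, _, _⟩ : IrreducibleCloseds X) < ⟨closure {g a}, _, _⟩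
  rw [lt_iff_le_not_ge]
  constructor
  · intro z hz
    exact closure_minimal (Set.singleton_subset_iff.2 h1) isClosed_closure hz
  · intro hle
    exact h2 (hle (subset_closure (Set.mem_singleton (g a))))

/-- A map with discrete fibres does not decrease the dimension of the source below. -/
theorem topologicalKrullDim_le_of_discrete {X Y : Type*} [TopologicalSpace X] [TopologicalSpace Y]
    [QuasiSober X] [T0Space Y] (f : X → Y) (hf : Continuous f)
    (hd : ∀ y, DiscreteTopology (f ⁻¹' {y})) :
    topologicalKrullDim X ≤ topologicalKrullDim Y := by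
  rw [topologicalKrullDim, ← Order.krullDim_orderDual (α := IrreducibleCloseds X)]
  let η : IrreducibleCloseds X → X := fun Z => Z.isIrreducible.genericPoint
  have hη : ∀ Z : IrreducibleCloseds X, closure {η Z} = (Z : Set X) := fun Z =>
    Z.isIrreducible.isGenericPoint_genericPoint Z.isClosed
  refine krullDim_le_topologicalKrullDim (fun Z => f (η (OrderDual.ofDual Z))) ?_
  intro a b hab
  have hlt : OrderDual.ofDual b < OrderDual.ofDual a := hab
  have hsp : η (OrderDual.ofDual a) ⤳ η (OrderDual.ofDual b) := by
    rw [specializes_iff_mem_closure, hη]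
    refine hlt.le ?_
    have h1 := subset_closure (Set.mem_singleton (η (OrderDual.ofDual b)))
    rw [hη] at h1
    exact h1
  refine ⟨hsp.map hf, fun hsp' => ?_⟩
  have heq : f (η (OrderDual.ofDual a)) = f (η (OrderDual.ofDual b)) :=
    (hsp.map hf).antisymm hsp' |>.eq
  have := hd (f (η (OrderDual.ofDual a)))
  let x : f ⁻¹' {f (η (OrderDual.ofDual a))} := ⟨_, rfl⟩
  let y : f ⁻¹' {f (η (OrderDual.ofDual a))} := ⟨η (OrderDual.ofDual b), heq.symm⟩
  have hxy : x ⤳ y := IsInducing.subtypeVal.specializes_iff.1 hsp
  have hxy' : η (OrderDual.ofDual a) = η (OrderDual.ofDual b) := congrArg Subtype.val hxy.eq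
  have h2 : ((OrderDual.ofDual a : IrreducibleCloseds X) : Set X) =
      ((OrderDual.ofDual b : IrreducibleCloseds X) : Set X) := by
    rw [← hη, ← hη (OrderDual.ofDual b), hxy']
  exact hlt.ne (SetLike.coe_injective h2.symm)

/-- Locally quasi-finite morphisms. -/
theorem dim_le {X Y : Scheme.{u}} (f : X ⟶ Y) [LocallyQuasiFinite f] :
    topologicalKrullDim X ≤ topologicalKrullDim Y :=
  topologicalKrullDim_le_of_discrete f f.continuous fun y =>
    (f.isDiscrete_preimage_singleton y).to_subtype

/-- Étale morphisms. -/
theorem dim_le_of_etale {X Y : Scheme.{u}} (f : X ⟶ Y) [Etale f] :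
    topologicalKrullDim X ≤ topologicalKrullDim Y :=
  have := Desc.LQF.of_etale f
  dim_le f

end Groth.Agent.An.H867.QfDim
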