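import Groth.Agent.An.H889.TDefs
import Groth.Agent.An.H887.Step
import Groth.Agent.An.H866.T4
import Groth.Agent.An.H883.EpsLim
import Groth.Agent.An.H882.EpsCont
import Groth.Agent.An.H867.ConstSect
import Groth.Agent.An.H867.QfDim
import Groth.Agent.An.H871.Imm
import Groth.Agent.CohtopA.DimShift

/-!
# The step `T(d) ⇒ T(d + 1)`

* `restrConst`: the restriction of a constant sheaf to an object of the classical site is constant;
* `LDat_of_iso`, `diesFrom_of_acyclic`;
* `tprop_succ`: if `R^q ε_*` (`q > 0`) kills the sheaves in `Acal (Aff d)`, and every affine `Y` of dimension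
  `≤ d + 1` fibres over `Aff d` as in `FibOut d`, then `TProp (d + 1)`.
-/

set_option autoImplicit false

open CategoryTheory CategoryTheory.Limits AlgebraicGeometry Opposite CategoryTheory.Abelian
open TopologicalSpace Topology

noncomputable section

namespace Groth.Agent.An.H867.Asm1

open Groth.Agent.Proet.ZU Groth.Agent.An.H888.ClsH Groth.Agent.An.H888.ClsLoc
open Groth.Agent.An.H888.Dies Groth.Agent.An.H888 Groth.Agent.An.H884.ClBC
open Groth.Agent.An.H884.ClPush Groth.Agent.An.H887.LD Groth.Agent.An.H887.Step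
open Groth.Agent.An.H889.TDefs Groth.Agent.An.H866.T2Defs

section Const

variable {T : Type} [TopologicalSpace T] (A : An.Cl T) (M : Type) [AddCommGroup M]

/-- Sections of a constant sheaf over an object over `A`. -/
def constEquiv (B : An.Cl A.E) : An.Cl.sect (An.Cl.const T M) ((loc A).obj B) ≃+
    An.Cl.sect (An.Cl.const A.E M) B :=
  (ConstSect.equiv (T := T) ((loc A).obj B)).trans (ConstSect.equiv (T := A.E) B).symm

theorem value_constEquiv (B : An.Cl A.E) (s : An.Cl.sect (An.Cl.const T M) ((loc A).obj B))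
    (b : B.E) : ConstSect.value (constEquiv A M B s) b =
      ConstSect.value (A := (loc A).obj B) s b :=
  ConstSect.value_mk (A := B) (ConstSect.value (A := (loc A).obj B) s)
    (ConstSect.isLocallyConstant_value (A := (loc A).obj B) s) b

/-- The restriction of a constant sheaf is constant. -/
def restrConst : (restr A).obj (An.Cl.const T M) ≅ An.Cl.const A.E M :=
  (sheafToPresheaf (An.Cl.topology A.E) AddCommGrpCat.{1}).preimageIso
    (NatIso.ofComponents (fun B => (constEquiv A M B.unop).toAddCommGrpIso) (fun {B B'} g => by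
      ext s
      refine ConstSect.ext_of_value (A := B'.unop) fun b => ?_
      have h1 := value_constEquiv A M B'.unop
        (Groth.Agent.An.H885.ClPoint.res (An.Cl.const T M) ((loc A).map g.unop) s) b
      have h2 := ConstSect.value_res (T := T) (M := M) ((loc A).map g.unop) s b
      have h3 := value_constEquiv A M B.unop s (g.unop.toFun b)
      have h4 := ConstSect.value_res (T := A.E) (M := M) g.unop (constEquiv A M B.unop s) b
      exact h1.trans (h2.trans (h3.symm.trans h4.symm))))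

end Const

section Scheme

variable {X : Scheme.{0}} [X.Over An.SC] [LocallyOfFiniteType (X ↘ An.SC)] [Fact An.EtaleLH]

theorem LDat_of_iso {G G' : An.Cl.Ab (An.Pts X)} (e : G ≅ G') {q : ℕ} {a : An.Pts X}
    (h : LDat G q a) : LDat G' q a := by
  intro x
  obtain ⟨V, b, hb, hx⟩ := h (x.comp (Ext.mk₀ e.inv) (add_zero q))
  refine ⟨V, b, hb, ?_⟩
  rw [res_comp_ext] at hx
  have h2 : ((res (toSelf ((An.eps X).obj V)) x).comp (Ext.mk₀ e.inv) (add_zero q)).comp
      (Ext.mk₀ e.hom) (add_zero q) = 0 := by rw [hx, Ext.zero_comp]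
  rw [Ext.comp_assoc_of_third_deg_zero, Ext.mk₀_comp_mk₀, e.inv_hom_id, Ext.comp_mk₀_id] at h2
  exact h2

variable (X)

/-- Classes of positive degree of an `ε_*`-acyclic sheaf die étale-locally. -/
theorem diesFrom_of_acyclic [An.EpsCont X] (G : An.Cl.Ab (An.Pts X))
    (h : ∀ q : ℕ, 0 < q → IsZero ((An.epsRpush X q).obj G)) :
    ClsLeray.DiesFrom.{1, 1} (An.eps X) X.smallEtaleTopology 1 G := by
  have := Groth.Agent.An.H883.EpsLim.preservesFiniteLimits_epsPull X
  intro U q hq x
  obtain ⟨q, rfl⟩ := Nat.exists_eq_succ_of_ne_zero (Nat.one_le_iff_ne_zero.1 hq)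
  obtain ⟨z, rfl⟩ := (ClsAdj.cm_bijective.{1, 1} (An.eps X) (An.epsAdj X) U G h (q + 1)).2 x
  obtain ⟨R, hR, h'⟩ := exists_cover_res_eq_zero.{1, 1} (J := X.smallEtaleTopology) U q _ z
  refine ⟨R, hR, fun V g hg => ?_⟩
  rw [← ClsAdj.cm_res, h' g hg, map_zero]

end Scheme

section Main

variable [Fact An.EtaleLH]

/-- Local killing of classes along the fibration. -/
theorem LDat_affine (d : ℕ) [An.EpsCont (Aff d)]
    (acyc : ∀ G : An.Cl.Ab (An.Pts (Aff d)), Acal (Aff d) G → ∀ q : ℕ, 0 < q →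
      IsZero ((An.epsRpush (Aff d) q).obj G))
    (hF : FibOut d) (Y : Scheme.{0}) [Y.Over An.SC] [LocallyOfFiniteType (Y ↘ An.SC)] [IsAffine Y]
    (hY : topologicalKrullDim Y ≤ (d + 1 : ℕ)) (M : Type) [AddCommGroup M] [Finite M]
    {q : ℕ} (hq : 2 ≤ q) (a : An.Pts Y) : LDat (An.Cl.const (An.Pts Y) M) q a := by
  obtain ⟨f, hf, h2, h0, h1⟩ := hF Y hY M
  obtain ⟨J, Q, i, p, w, hJ, hS⟩ :=
    CohtopA.DimShift.exists_shortExact_injective (An.Cl.const (An.Pts Y) M)
  refine LDat_of_diesFrom f hq ?_ a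
  exact ClsLeray.diesFrom_comp.{1, 1} (An.eps (Aff d)) (clBC (An.Pts.mapC f))
    (clAdj (An.Pts.mapC f)) (An.Cl.const (An.Pts Y) M) h2
    ((diesFrom_of_acyclic (Aff d) _ (acyc _ h0)).mono (by omega)) hS hJ (Iso.refl _)
    (diesFrom_of_acyclic (Aff d) _ (acyc _ (h1 _ hS hJ rfl)))

omit [Fact An.EtaleLH] in
/-- `DiesAt` passes to the source of an étale morphism. -/
theorem diesAt_of_res {X : Scheme.{0}} [X.Over An.SC] [LocallyOfFiniteType (X ↘ An.SC)]
    [Fact An.EtaleLH] {U V : X.Etale} (k : V ⟶ U) {G : An.Cl.Ab (An.Pts X)} {q : ℕ}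
    (x : HA ((An.eps X).obj U) G q) (b : An.Pts V.left)
    (h : DiesAt (res ((An.eps X).map k) x) b) :
    DiesAt x (An.Pts.map (X := V.left) (Y := U.left) k.left b) := by
  obtain ⟨W, g, c, hc, hx⟩ := h
  refine ⟨W, g ≫ k, c, ?_, ?_⟩
  · have h1 : ((An.eps X).map (g ≫ k)).toFun c =
        ((An.eps X).map k).toFun (((An.eps X).map g).toFun c) := by
      rw [Functor.map_comp]
      rfl
    exact h1.trans (congrArg ((An.eps X).map k).toFun hc)
  · rw [Functor.map_comp, ← res_res]
    exact hx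

omit [Fact An.EtaleLH] in
/-- **The step** `T(d) ⇒ T(d + 1)`. -/
theorem tprop_succ_of (d : ℕ)
    (ret : ∀ (X : Scheme.{0}) [X.Over An.SC] [LocallyOfFiniteType (X ↘ An.SC)]
      (E : Type) [TopologicalSpace E] (p : E → An.Pts X), IsCoveringMap p →
      (∀ x : An.Pts X, (p ⁻¹' {x}).Finite) → Groth.Agent.An.H866.AlgCov.IsAlg p)
    (acyc : ∀ [Fact An.EtaleLH] [An.EpsCont (Aff d)] (G : An.Cl.Ab (An.Pts (Aff d))),
      Acal (Aff d) G → ∀ q : ℕ, 0 < q → IsZero ((An.epsRpush (Aff d) q).obj G))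
    (hF : FibOut d) : TProp (d + 1) := by
  intro Y _ _ _ _ hY M _ _ q hq
  have hc : An.EpsCont (Aff d) := Groth.Agent.An.H882.EpsCont.epsCont (Aff d)
  refine isZero_epsRpush Y (An.Cl.const (An.Pts Y) M) (fun U q x a => ?_) q hq
  have hlU : LocallyOfFiniteType (U.left ↘ An.SC) := lft_left U
  obtain _ | q := q
  · exact Groth.Agent.An.H866.T4.diesAt_one (fun E _ p hp hfin => ret U.left E p hp hfin) M x a
  obtain ⟨W, hW, haW, -⟩ := exists_isAffineOpen_mem_and_subset (X := U.left) (x := a.pt)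
    (U := ⊤) trivial
  obtain ⟨b, hb⟩ := Groth.Agent.An.H886.Algebraic.exists_lift_pt U W a haW
  let V : Y.Etale := Groth.Agent.An.H886.Algebraic.restr U W
  let k : V ⟶ U := Groth.Agent.An.H886.Algebraic.restrι U W
  have hlV : LocallyOfFiniteType (V.left ↘ An.SC) := lft_left V
  have hVa : IsAffine V.left := hW
  have hVe : Etale (V.left ↘ Y) := V.prop
  have hdim : topologicalKrullDim V.left ≤ (d + 1 : ℕ) :=
    (QfDim.dim_le_of_etale (V.left ↘ Y)).trans hY
  have hL : LDat (X := V.left) (An.Cl.const (An.Pts V.left) M) (q + 2) b :=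
    LDat_affine d (fun G hG q hq => acyc G hG q hq) hF V.left hdim M (by omega) b
  have hL' : LDat (X := V.left)
      ((Groth.Agent.An.H888.ClsLoc.restr ((An.eps Y).obj V)).obj (An.Cl.const (An.Pts Y) M))
      (q + 2) b :=
    LDat_of_iso (X := V.left) (restrConst ((An.eps Y).obj V) M).symm hL
  have hD := diesAt_of_res k x b (diesAt_of_LDat hL' (res ((An.eps Y).map k) x))
  have hb' : An.Pts.map (X := V.left) (Y := U.left) k.left b = a := hb
  rw [hb'] at hD
  exact hD

end Main

end Groth.Agent.An.H867.Asm1
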