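import Groth.Agent.An.H889.FibB

/-!
# `FibOut d`

* `sit_congr`, `along_congr`: transport of the topological situation along a homeomorphism of the source;
* `exists_lift`: a morphism from the reduction of an affine `Y` to affine space lifts to `Y`;
* `fibOut d : FibOut d`.
-/

set_option autoImplicit false

open CategoryTheory AlgebraicGeometry TopologicalSpace Topology Opposite Limits

noncomputable section

namespace Groth.Agent.An.H867.FibFinal

open Groth.Agent.An.H889.TDefs Groth.Agent.An.H889.TopMain Groth.Agent.An.H889.FibA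
open Groth.Agent.An.H889.FibB
open Groth.Agent.An.H884.ClBC Groth.Agent.An.H884.ClPush Groth.Agent.An.H888.ClsLeray
open Groth.Agent.An.H866.T2Defs

section Transport

variable {E E' T : Type} [TopologicalSpace E] [TopologicalSpace E'] [TopologicalSpace T]
  {π : C(E, ℂ × T)} {D : Set (ℂ × T)}

/-- Transport of the topological situation. -/
theorem sit_congr (X : Sit E T π D) (e : E' ≃ₜ E) :
    Sit E' T (π.comp (⟨e, e.continuous⟩ : C(E', E))) D where
  t2 := by
    have := X.t2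
    exact e.symm.t2Space
  cl := X.cl.comp e.isClosedMap
  fin b := by
    have h1 : (e ⁻¹' (π ⁻¹' {b})).Finite := (X.fin b).preimage e.injective.injOn
    exact h1
  ram := X.ram
  cov p hp := ((X.cov p hp).comp_homeomorph e).to_isEvenlyCovered_preimage
  base := X.base

theorem along_congr {Z : Set T} {z : T} (h : AlongT π D Z z) (e : E' ≃ₜ E) :
    AlongT (π.comp (⟨e, e.continuous⟩ : C(E', E))) D Z z where
  up e' he' hz' := by
    have h1 := h.up (e e') he' hz'
    refine ⟨fun N hN => ?_, ?_⟩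
    · obtain ⟨P, hP, h2⟩ := h1.ex ⟨e '' N, e.isOpenMap _ N.2⟩ ⟨e', hN, rfl⟩
      refine ⟨P, hP, fun p' hp' hS => ?_⟩
      obtain ⟨_, ⟨x, hx, rfl⟩, h3⟩ := h2 p' hp' hS
      exact ⟨x, hx, h3⟩
    · obtain ⟨N, hN, h2⟩ := h1.uniq
      exact ⟨⟨e ⁻¹' N, N.2.preimage e.continuous⟩, hN,
        fun a ha b hb hS hab => e.injective (h2 _ ha _ hb hS hab)⟩
  ex := h.ex
  uniq := h.uniq

end Transport

section Lift

/-- Lifting of morphisms to affine space from the reduction. -/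
theorem exists_lift {d : ℕ} (B : CommRingCat.{0}) (I : Ideal B) (sY : CommRingCat.of ℂ ⟶ B)
    (φ : Rd d ⟶ CommRingCat.of (B ⧸ I))
    (hφ : CommRingCat.ofHom (MvPolynomial.C : ℂ →+* MvPolynomial (Fin d) ℂ) ≫ φ =
      sY ≫ CommRingCat.ofHom (Ideal.Quotient.mk I)) :
    ∃ ψ : Rd d ⟶ B, ψ ≫ CommRingCat.ofHom (Ideal.Quotient.mk I) = φ ∧
      CommRingCat.ofHom (MvPolynomial.C : ℂ →+* MvPolynomial (Fin d) ℂ) ≫ ψ = sY := by
  choose b hb using fun j : Fin d => Ideal.Quotient.mk_surjective (φ.hom (MvPolynomial.X j))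
  let ψ₀ : MvPolynomial (Fin d) ℂ →+* B := MvPolynomial.eval₂Hom sY.hom b
  refine ⟨CommRingCat.ofHom ψ₀, ?_, ?_⟩
  · apply CommRingCat.hom_ext
    refine MvPolynomial.ringHom_ext (fun c => ?_) (fun j => ?_)
    · have h1 := ConcreteCategory.congr_hom hφ c
      have h2 : ψ₀ (MvPolynomial.C c) = sY.hom c := MvPolynomial.eval₂Hom_C _ _ _
      change Ideal.Quotient.mk I (ψ₀ (MvPolynomial.C c)) = φ.hom (MvPolynomial.C c)
      rw [h2]
      exact h1.symm
    · have h2 : ψ₀ (MvPolynomial.X j) = b j := MvPolynomial.eval₂Hom_X' _ _ _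
      change Ideal.Quotient.mk I (ψ₀ (MvPolynomial.X j)) = φ.hom (MvPolynomial.X j)
      rw [h2]
      exact hb j
  · apply CommRingCat.hom_ext
    ext c
    exact MvPolynomial.eval₂Hom_C _ _ _

end Lift

/-- The reduction of an affine scheme. -/
theorem exists_reduction (Y : Scheme.{0}) [Y.Over An.SC] [IsAffine Y] (d : ℕ) :
    ∃ (Yr : Scheme.{0}) (_ : Yr.Over An.SC) (i : Yr ⟶ Y) (_ : i.IsOver An.SC), IsAffine Yr ∧
      IsReduced Yr ∧ IsClosedImmersion i ∧ Function.Surjective i ∧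
      ∀ g : Yr ⟶ Aff d, g.IsOver An.SC → ∃ f : Y ⟶ Aff d, f.IsOver An.SC ∧ i ≫ f = g := by
  let B : CommRingCat.{0} := Γ(Y, ⊤)
  let I : Ideal B := nilradical B
  let i₀ : Spec (CommRingCat.of (B ⧸ I)) ⟶ Spec B :=
    Spec.map (CommRingCat.ofHom (Ideal.Quotient.mk I))
  let i : Spec (CommRingCat.of (B ⧸ I)) ⟶ Y := i₀ ≫ Y.isoSpec.inv
  let oYr : (Spec (CommRingCat.of (B ⧸ I))).Over An.SC := ⟨i ≫ (Y ↘ An.SC)⟩
  have hi₀ : IsClosedImmersion i₀ := IsClosedImmersion.spec_of_surjective _ Ideal.Quotient.mk_surjective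
  refine ⟨Spec (CommRingCat.of (B ⧸ I)), oYr, i, ⟨rfl⟩, inferInstance, ?_, inferInstance, ?_, ?_⟩
  · have : _root_.IsReduced (B ⧸ I) := by
      rw [← Ideal.isRadical_iff_quotient_reduced]
      exact Ideal.radical_isRadical _
    infer_instance
  · have h0 : Function.Surjective i₀ := by
      rw [← Set.range_eq_univ]
      have h1 := range_comap_of_surjective (B ⧸ I) (Ideal.Quotient.mk I)
        Ideal.Quotient.mk_surjective
      rw [Ideal.mk_ker] at h1
      exact h1.trans ((PrimeSpectrum.zeroLocus_eq_univ_iff _).2 le_rfl)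
    have h1 : Function.Surjective Y.isoSpec.inv := Y.isoSpec.inv.homeomorph.surjective
    have h2 := h1.comp h0
    intro y
    obtain ⟨x, hx⟩ := h2 y
    exact ⟨x, (Scheme.Hom.comp_apply _ _ _).trans hx⟩
  · intro g hg
    let sY : CommRingCat.of ℂ ⟶ B := Spec.preimage (Y.isoSpec.inv ≫ (Y ↘ An.SC))
    have hsY : Spec.map sY = Y.isoSpec.inv ≫ (Y ↘ An.SC) := Spec.map_preimage _
    let g' : Spec (CommRingCat.of (B ⧸ I)) ⟶ Spec (Rd d) := g
    let φ : Rd d ⟶ CommRingCat.of (B ⧸ I) := Spec.preimage g'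
    have hφg : Spec.map φ = g' := Spec.map_preimage _
    have hg' : g' ≫ Spec.map (CommRingCat.ofHom (MvPolynomial.C : ℂ →+* MvPolynomial (Fin d) ℂ)) =
        i ≫ (Y ↘ An.SC) := hg.1
    have hφ : CommRingCat.ofHom (MvPolynomial.C : ℂ →+* MvPolynomial (Fin d) ℂ) ≫ φ =
        sY ≫ CommRingCat.ofHom (Ideal.Quotient.mk I) := by
      apply Spec.map_injective
      rw [Spec.map_comp, Spec.map_comp, hφg, hg', hsY]
      exact Category.assoc _ _ _
    obtain ⟨ψ, hψ, hψC⟩ := exists_lift B I sY φ hφ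
    refine ⟨Y.isoSpec.hom ≫ Spec.map ψ, ⟨?_⟩, ?_⟩
    · change (Y.isoSpec.hom ≫ Spec.map ψ) ≫
        Spec.map (CommRingCat.ofHom (MvPolynomial.C : ℂ →+* MvPolynomial (Fin d) ℂ)) = Y ↘ An.SC
      rw [Category.assoc, ← Spec.map_comp, hψC, hsY, Iso.hom_inv_id_assoc]
    · change (i₀ ≫ Y.isoSpec.inv) ≫ Y.isoSpec.hom ≫ Spec.map ψ = g
      rw [Category.assoc, Iso.inv_hom_id_assoc, ← Spec.map_comp, hψ]
      exact hφg

/-- **`FibOut d`.** -/
theorem fibOut (d : ℕ) : FibOut d := by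
  intro Y _ _ _ hdim M _ _
  obtain ⟨Yr, oYr, i, oi, hYa, hYr, hi, hsurj, hlift⟩ := exists_reduction Y d
  have hlft : LocallyOfFiniteType (Yr ↘ An.SC) := by
    rw [← comp_over i An.SC]
    infer_instance
  have hdim' : topologicalKrullDim Yr ≤ (d + 1 : ℕ) :=
    (i.isClosedEmbedding.isInducing.topologicalKrullDim_le).trans hdim
  obtain ⟨π, Δ, hfin, hΔ, hπ, het⟩ := H526.T3.exists_noether ℂ d Yr (Yr ↘ An.SC) hdim'
  let π' : Yr ⟶ AffT d := π
  have oπ : π'.IsOver An.SC := ⟨hπ⟩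
  have hfin' : IsFinite π' := hfin
  obtain ⟨f, of, hf⟩ := hlift (π' ≫ prA d) inferInstance
  let h : An.Pts Yr ≃ₜ An.Pts Y :=
    (H871.Imm.isClosedEmbedding_map i).isEmbedding.toHomeomorphOfSurjective (by
      rw [← Set.range_eq_univ, H871.Imm.range_map_of_isClosedImmersion]
      rw [hsurj.range_eq, Set.preimage_univ])
  have hh : ∀ x, h x = An.Pts.map i x := fun _ => rfl
  have X := sit_congr (sit π' hΔ het) h.symm
  have hpr : pr ((piT π').comp (⟨h.symm, h.symm.continuous⟩ : C(An.Pts Y, An.Pts Yr))) =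
      An.Pts.mapC f := by
    ext y
    obtain ⟨x, rfl⟩ := h.surjective y
    change (Phi d (An.Pts.map π' (h.symm (h x)))).2 = An.Pts.map f (h x)
    rw [h.symm_apply_apply, Phi_snd, hh]
    refine Subtype.ext ?_
    simp only [An.Pts.map_val, Category.assoc]
    rw [hf]
  have key : ∀ r : C(An.Pts Y, An.Pts (Aff d)),
      pr ((piT π').comp (⟨h.symm, h.symm.continuous⟩ : C(An.Pts Y, An.Pts Yr))) = r →
      DiesFrom.{1, 1} (clBC r) (An.Cl.topology (An.Pts (Aff d))) 2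
        (An.Cl.const (An.Pts Y) M) ∧
      Acal (Aff d) ((clPush r).obj (An.Cl.const (An.Pts Y) M)) ∧
      ∀ (K : ShortComplex (An.Cl.Ab (An.Pts Y))), K.ShortExact → Injective K.X₂ →
        K.X₁ = An.Cl.const (An.Pts Y) M → Acal (Aff d) (cokernel ((clPush r).map K.g)) := by
    rintro _ rfl
    refine ⟨dies X M, fun Z hZ hirr => ?_, fun K hK hI he Z hZ hirr => ?_⟩
    · obtain ⟨U, hne, hU⟩ := exists_along π' hΔ Z hZ hirr
      exact ⟨U, hne, fun z hzU hzZ => lcat_zero X M (along_congr (hU z hzU hzZ) h.symm)⟩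
    · obtain ⟨U, hne, hU⟩ := exists_along π' hΔ Z hZ hirr
      exact ⟨U, hne, fun z hzU hzZ => lcat_one X M (along_congr (hU z hzU hzZ) h.symm) hK he⟩
  exact ⟨f, of, key _ hpr⟩

end Groth.Agent.An.H867.FibFinal
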