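import Groth.Agent.An.H867.SCSym
import Mathlib.Topology.Algebra.MvPolynomial

/-!
# The pattern of the real parts of the roots of a family of real polynomials

`P` is a monic polynomial over `A = ℝ[b_1, …, b_m]`.  `rho P b` are the sorted real parts of the
complex roots of `P(b, ·)`.  They depend continuously on `b`; and the pattern of coincidences
of the `rho i` and of those which are real roots of given factors of `P` is locally constant on the
loci where finitely many elements of `A` have a constant vanishing pattern.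
-/

set_option autoImplicit false

open Polynomial Topology Filter

noncomputable section

namespace Groth.Agent.An.H867.SCPattern

open SCRoots SCSym

/-! ### Sorting is Lipschitz -/

theorem sort_le {d : ℕ} {x y : Fin d → ℝ} {δ : ℝ} (h : ∀ j, y j ≤ x j + δ) (i : Fin d) :
    (y ∘ Tuple.sort y) i ≤ (x ∘ Tuple.sort x) i + δ := by
  classical
  rw [← Tuple.lt_card_le_iff_apply_le_of_monotone (Tuple.monotone_sort y)]
  have h1 : (i : ℕ) < (Finset.univ.filter (fun j => (x ∘ Tuple.sort x) j ≤
      (x ∘ Tuple.sort x) i)).card :=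
    (Tuple.lt_card_le_iff_apply_le_of_monotone (Tuple.monotone_sort x)).2 le_rfl
  have hc : ∀ (u : Fin d → ℝ) (c : ℝ), (Finset.univ.filter (fun j => (u ∘ Tuple.sort u) j ≤ c)).card =
      (Finset.univ.filter (fun j => u j ≤ c)).card := by
    intro u c
    refine Finset.card_bij (fun j _ => Tuple.sort u j) ?_ ?_ ?_
    · intro j hj
      simpa using hj
    · intro a _ b _ hab
      exact (Tuple.sort u).injective hab
    · intro b hb
      exact ⟨(Tuple.sort u).symm b, by simpa using hb, by simp⟩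
  rw [hc] at h1 ⊢
  refine lt_of_lt_of_le h1 (Finset.card_le_card ?_)
  intro j hj
  simp only [Finset.mem_filter, Finset.mem_univ, true_and] at hj ⊢
  exact (h j).trans (by linarith)

theorem abs_sort_sub_lt {d : ℕ} {x y : Fin d → ℝ} {ε : ℝ} (h : ∀ j, |x j - y j| < ε) (i : Fin d) :
    |(x ∘ Tuple.sort x) i - (y ∘ Tuple.sort y) i| < ε := by
  have hne : (Finset.univ : Finset (Fin d)).Nonempty := ⟨i, Finset.mem_univ _⟩
  obtain ⟨k, -, hk⟩ := Finset.exists_max_image Finset.univ (fun j => |x j - y j|) hne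
  refine lt_of_le_of_lt ?_ (h k)
  rw [abs_sub_le_iff]
  constructor
  · have := sort_le (x := y) (y := x) (δ := |x k - y k|) (fun j => by
      have h1 := hk j (Finset.mem_univ _)
      have h2 := le_abs_self (x j - y j)
      have h1 : |x j - y j| ≤ |x k - y k| := h1
      linarith) i
    linarith
  · have := sort_le (x := x) (y := y) (δ := |x k - y k|) (fun j => by
      have h1 := hk j (Finset.mem_univ _)
      have h2 := neg_abs_le (x j - y j)
      have h1 : |x j - y j| ≤ |x k - y k| := h1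
      linarith) i
    linarith

/-! ### The sorted real parts -/

variable {m : ℕ}

/-- Evaluation at `b` with complex values. -/
def evC (b : Fin m → ℝ) : MvPolynomial (Fin m) ℝ →+* ℂ :=
  Complex.ofRealHom.comp (MvPolynomial.eval b)

theorem evC_apply (b : Fin m → ℝ) (a : MvPolynomial (Fin m) ℝ) :
    evC b a = ((MvPolynomial.eval b a : ℝ) : ℂ) := rfl

theorem evC_eq_zero {b : Fin m → ℝ} {a : MvPolynomial (Fin m) ℝ} :
    evC b a = 0 ↔ MvPolynomial.eval b a = 0 := by
  rw [evC_apply, Complex.ofReal_eq_zero]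

theorem map_evC (b : Fin m → ℝ) (f : (MvPolynomial (Fin m) ℝ)[X]) :
    f.map (evC b) = (f.map (MvPolynomial.eval b)).map Complex.ofRealHom := by
  rw [Polynomial.map_map]; rfl

theorem eval_map_evC (b : Fin m → ℝ) (f : (MvPolynomial (Fin m) ℝ)[X]) (x : ℝ) :
    (f.map (evC b)).eval (x : ℂ) = (((f.map (MvPolynomial.eval b)).eval x : ℝ) : ℂ) := by
  rw [map_evC]
  exact Polynomial.eval_map_apply (f := Complex.ofRealHom) x

theorem eval_map_evC_eq_zero (b : Fin m → ℝ) (f : (MvPolynomial (Fin m) ℝ)[X]) (x : ℝ) :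
    (f.map (evC b)).eval (x : ℂ) = 0 ↔ (f.map (MvPolynomial.eval b)).eval x = 0 := by
  rw [eval_map_evC, Complex.ofReal_eq_zero]

variable (P : (MvPolynomial (Fin m) ℝ)[X]) (hP : P.Monic)

include hP in
theorem exists_rts (b : Fin m → ℝ) : ∃ z : Fin P.natDegree → ℂ, P.map (evC b) = prodX z :=
  exists_prodX (hP.map _) (hP.natDegree_map _)

open scoped Classical in
/-- Some ordering of the roots. -/
def rts (b : Fin m → ℝ) : Fin P.natDegree → ℂ :=
  if h : ∃ z : Fin P.natDegree → ℂ, P.map (evC b) = prodX z then h.choose else 0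

include hP in
theorem map_eq_prodX_rts (b : Fin m → ℝ) : P.map (evC b) = prodX (rts P b) := by
  have h := exists_rts P hP b
  rw [rts, dif_pos h]
  exact h.choose_spec

/-- The sorted real parts of the roots. -/
def rho (b : Fin m → ℝ) : Fin P.natDegree → ℝ :=
  (fun i => (rts P b i).re) ∘ Tuple.sort (fun i => (rts P b i).re)

theorem monotone_rho (b : Fin m → ℝ) : Monotone (rho P b) := Tuple.monotone_sort _

include hP in
theorem rho_eq {b : Fin m → ℝ} {z : Fin P.natDegree → ℂ} (hz : P.map (evC b) = prodX z) :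
    rho P b = (fun i => (z i).re) ∘ Tuple.sort (fun i => (z i).re) := by
  obtain ⟨σ, hσ⟩ := perm_of_prodX_eq ((map_eq_prodX_rts P hP b).symm.trans hz)
  have h1 : (fun i => (rts P b i).re) = (fun i => (z i).re) ∘ σ := by
    funext i
    rw [← hσ]; rfl
  rw [rho, h1]
  exact Tuple.comp_perm_comp_sort_eq_comp_sort

include hP in
theorem rho_eq_of_monotone {b : Fin m → ℝ} {z : Fin P.natDegree → ℂ}
    (hz : P.map (evC b) = prodX z) (hm : Monotone fun i => (z i).re) :
    rho P b = fun i => (z i).re := by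
  rw [rho_eq P hP hz]
  have := (Tuple.sort_eq_refl_iff_monotone (f := fun i => (z i).re)).2 hm
  rw [this]
  rfl

include hP in
/-- An ordering of the roots with increasing real parts. -/
theorem exists_sorted (b : Fin m → ℝ) : ∃ z : Fin P.natDegree → ℂ, P.map (evC b) = prodX z ∧
    (Monotone fun i => (z i).re) ∧ rho P b = fun i => (z i).re := by
  refine ⟨rts P b ∘ Tuple.sort (fun i => (rts P b i).re), ?_, ?_, rfl⟩
  · rw [prodX_comp_perm, ← map_eq_prodX_rts P hP]
  · exact monotone_rho P b

include hP in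
/-- The real roots of factors of `P` are among the `rho`. -/
theorem exists_rho_eq {f : (MvPolynomial (Fin m) ℝ)[X]} (hf : f ∣ P) {b : Fin m → ℝ} {x : ℝ}
    (hx : (f.map (MvPolynomial.eval b)).eval x = 0) : ∃ i, rho P b i = x := by
  obtain ⟨z, hz, -, hr⟩ := exists_sorted P hP b
  obtain ⟨g, rfl⟩ := hf
  have h1 : ((f * g).map (evC b)).eval (x : ℂ) = 0 := by
    rw [eval_map_evC_eq_zero, Polynomial.map_mul, Polynomial.eval_mul, hx, zero_mul]
  rw [hz, isRoot_prodX] at h1
  obtain ⟨i, hi⟩ := h1
  refine ⟨i, ?_⟩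
  rw [hr]
  simp [hi]

/-! ### Continuity -/

theorem continuous_evC (a : MvPolynomial (Fin m) ℝ) : Continuous (fun b => evC b a) :=
  Complex.continuous_ofReal.comp (MvPolynomial.continuous_eval a)

include hP in
theorem eventually_close (b₀ : Fin m → ℝ) {z₀ : Fin P.natDegree → ℂ}
    (hz₀ : P.map (evC b₀) = prodX z₀) {ε : ℝ} (hε : 0 < ε) :
    ∀ᶠ b in 𝓝 b₀, ∃ z : Fin P.natDegree → ℂ, P.map (evC b) = prodX z ∧
      ∀ i, ‖z i - z₀ i‖ < ε := by
  have h := eventually_exists_perm (𝓕 := 𝓝 b₀) (rts P) z₀ (by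
    intro k
    rw [← hz₀]
    have : (fun b => (prodX (rts P b)).coeff k) = fun b => evC b (P.coeff k) := by
      funext b
      rw [← map_eq_prodX_rts P hP, coeff_map]
    rw [this, coeff_map]
    exact (continuous_evC _).continuousAt) hε
  filter_upwards [h] with b ⟨σ, hσ⟩
  refine ⟨rts P b ∘ σ, ?_, hσ⟩
  rw [prodX_comp_perm, ← map_eq_prodX_rts P hP]

include hP in
theorem continuous_rho : Continuous (rho P) := by
  rw [continuous_iff_continuousAt]
  intro b₀
  rw [ContinuousAt, tendsto_pi_nhds]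
  intro i
  rw [Metric.tendsto_nhds]
  intro ε hε
  filter_upwards [eventually_close P hP b₀ (map_eq_prodX_rts P hP b₀) hε] with b ⟨z, hz, hzε⟩
  rw [Real.dist_eq, rho_eq P hP hz, rho]
  refine abs_sort_sub_lt (fun j => ?_) i
  rw [← Complex.sub_re]
  exact (Complex.abs_re_le_norm _).trans_lt (hzε j)

/-! ### The pattern -/

/-- The index type of the expressions in the roots. -/
abbrev Idx (F : Finset (MvPolynomial (Fin m) ℝ)[X]) : Type :=
  (Fin P.natDegree × Fin P.natDegree × Fin P.natDegree × Fin P.natDegree) ⊕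
    (F × Fin P.natDegree)

/-- The expressions in the roots: `Z_i + Z_j - Z_k - Z_l` and `f(Z_j)`. -/
def expr (F : Finset (MvPolynomial (Fin m) ℝ)[X]) :
    Idx P F → MvPolynomial (Fin P.natDegree) (MvPolynomial (Fin m) ℝ)
  | .inl (i, j, k, l) => MvPolynomial.X i + MvPolynomial.X j - MvPolynomial.X k - MvPolynomial.X l
  | .inr (f, j) => Polynomial.aeval (MvPolynomial.X j) f.1

theorem eval₂_expr_inl (F : Finset (MvPolynomial (Fin m) ℝ)[X]) (b : Fin m → ℝ)
    (z : Fin P.natDegree → ℂ) (i j k l : Fin P.natDegree) :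
    MvPolynomial.eval₂ (evC b) z (expr P F (.inl (i, j, k, l))) = z i + z j - z k - z l := by
  simp [expr, MvPolynomial.eval₂_sub]

theorem eval₂_expr_inr (F : Finset (MvPolynomial (Fin m) ℝ)[X]) (b : Fin m → ℝ)
    (z : Fin P.natDegree → ℂ) (f : F) (j : Fin P.natDegree) :
    MvPolynomial.eval₂ (evC b) z (expr P F (.inr (f, j))) = (f.1.map (evC b)).eval (z j) := by
  have h : (MvPolynomial.eval₂Hom (evC b) z).comp
      (Polynomial.aeval (MvPolynomial.X j : MvPolynomial (Fin P.natDegree)
        (MvPolynomial (Fin m) ℝ))).toRingHom = Polynomial.eval₂RingHom (evC b) (z j) := by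
    apply Polynomial.ringHom_ext
    · intro a; simp
    · simp
  have h2 := DFunLike.congr_fun h f.1
  rw [Polynomial.eval_map]
  exact h2

theorem continuous_eval₂ {d : ℕ} (S : MvPolynomial (Fin d) (MvPolynomial (Fin m) ℝ)) :
    Continuous (fun q : (Fin m → ℝ) × (Fin d → ℂ) => MvPolynomial.eval₂ (evC q.1) q.2 S) := by
  induction S using MvPolynomial.induction_on with
  | C a =>
    simp only [MvPolynomial.eval₂_C]
    exact (continuous_evC a).comp continuous_fst
  | add p q hp hq =>
    simp only [MvPolynomial.eval₂_add]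
    exact hp.add hq
  | mul_X p i hp =>
    simp only [MvPolynomial.eval₂_mul, MvPolynomial.eval₂_X]
    exact hp.mul ((continuous_apply i).comp continuous_snd)

theorem stable (F : Finset (MvPolynomial (Fin m) ℝ)[X]) (σ : Equiv.Perm (Fin P.natDegree)) :
    ∃ τ : Equiv.Perm (Idx P F), ∀ l, MvPolynomial.rename σ (expr P F l) = expr P F (τ l) := by
  refine ⟨Equiv.sumCongr (σ.prodCongr (σ.prodCongr (σ.prodCongr σ)))
    ((Equiv.refl _).prodCongr σ), ?_⟩
  rintro (⟨i, j, k, l⟩ | ⟨f, j⟩)
  · simp [expr]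
  · simp only [expr, Equiv.sumCongr_apply, Sum.map_inr, Equiv.prodCongr_apply, Prod.map_apply,
      Equiv.refl_apply]
    have h : (MvPolynomial.rename σ : MvPolynomial (Fin P.natDegree) (MvPolynomial (Fin m) ℝ) →ₐ[_]
        MvPolynomial (Fin P.natDegree) (MvPolynomial (Fin m) ℝ)).comp
        (Polynomial.aeval (MvPolynomial.X j)) = Polynomial.aeval (MvPolynomial.X (σ j)) := by
      apply Polynomial.algHom_ext
      simp
    exact DFunLike.congr_fun h f.1

include hP in
/-- The main local statement. -/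
theorem exists_pattern (F : Finset (MvPolynomial (Fin m) ℝ)[X]) (hF : ∀ f ∈ F, f ∣ P) :
    ∃ F' : Finset (MvPolynomial (Fin m) ℝ), ∀ b₀ : Fin m → ℝ, ∀ᶠ b in 𝓝 b₀,
      (∀ g ∈ F', MvPolynomial.eval b g = 0 ↔ MvPolynomial.eval b₀ g = 0) →
      (∀ i j, rho P b i = rho P b j ↔ rho P b₀ i = rho P b₀ j) ∧
      ∀ f ∈ F, ∀ i, (f.map (MvPolynomial.eval b)).eval (rho P b i) = 0 ↔
        (f.map (MvPolynomial.eval b₀)).eval (rho P b₀ i) = 0 := by
  classical
  obtain ⟨F', hF'⟩ := exists_count P (expr P F) (stable P F)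
  refine ⟨F', fun b₀ => ?_⟩
  obtain ⟨z₀, hz₀, hmono, hr₀⟩ := exists_sorted P hP b₀
  -- a small `ε`
  have hev : ∀ᶠ q : (Fin m → ℝ) × (Fin P.natDegree → ℂ) in 𝓝 (b₀, z₀), ∀ l : Idx P F,
      MvPolynomial.eval₂ (evC b₀) z₀ (expr P F l) ≠ 0 →
        MvPolynomial.eval₂ (evC q.1) q.2 (expr P F l) ≠ 0 := by
    rw [eventually_all]
    intro l
    by_cases h : MvPolynomial.eval₂ (evC b₀) z₀ (expr P F l) = 0
    · exact Eventually.of_forall fun q hq => absurd h hq
    · have h1 := (continuous_eval₂ (expr P F l)).continuousAt (x := (b₀, z₀))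
      filter_upwards [h1.eventually_ne h] with q hq _
      exact hq
  obtain ⟨ε₁, hε₁, hball⟩ := Metric.eventually_nhds_iff.1 hev
  have hsmall : ∀ᶠ ε : ℝ in 𝓝[>] 0, ε < ε₁ ∧ (∀ i j, z₀ i ≠ z₀ j → 2 * ε < ‖z₀ i - z₀ j‖) ∧
      ∀ i j, (z₀ i).re < (z₀ j).re → 2 * ε < (z₀ j).re - (z₀ i).re := by
    have key : ∀ c : ℝ, 0 < c → ∀ᶠ ε : ℝ in 𝓝[>] 0, 2 * ε < c := by
      intro c hc
      have h1 : Tendsto (fun ε : ℝ => 2 * ε) (𝓝[>] 0) (𝓝 (2 * 0)) :=
        ((continuous_const.mul continuous_id).tendsto 0).mono_left nhdsWithin_le_nhds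
      rw [mul_zero] at h1
      exact h1.eventually_lt_const hc
    refine Eventually.and ?_ (Eventually.and ?_ ?_)
    · filter_upwards [key _ (mul_pos two_pos hε₁)] with ε hε
      linarith
    · rw [eventually_all]; intro i
      rw [eventually_all]; intro j
      by_cases h : z₀ i = z₀ j
      · exact Eventually.of_forall fun _ h' => absurd h h'
      · filter_upwards [key _ (norm_pos_iff.2 (sub_ne_zero.2 h))] with ε hε _
        exact hε
    · rw [eventually_all]; intro i
      rw [eventually_all]; intro j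
      by_cases h : (z₀ i).re < (z₀ j).re
      · filter_upwards [key _ (sub_pos.2 h)] with ε hε _
        exact hε
      · exact Eventually.of_forall fun _ h' => absurd h' h
  obtain ⟨ε, ⟨hεε₁, hsep, hsepre⟩, hε0⟩ := (hsmall.and self_mem_nhdsWithin).exists
  have hε : 0 < ε := hε0
  filter_upwards [eventually_close P hP b₀ hz₀ hε, Metric.ball_mem_nhds b₀ hε₁] with b hb hbb hpat
  obtain ⟨z, hz, hclose⟩ := hb
  -- the pattern of vanishing expressions is the same
  have hdist : dist (b, z) (b₀, z₀) < ε₁ := by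
    rw [Prod.dist_eq, max_lt_iff]
    refine ⟨hbb, ?_⟩
    rw [dist_pi_lt_iff hε₁]
    intro i
    rw [dist_eq_norm]
    exact (hclose i).trans hεε₁
  have hsub := hball hdist
  have hcard := hF' (evC b₀) (evC b) z₀ z hz₀ hz (by
    intro g hg
    rw [evC_eq_zero, evC_eq_zero]
    exact (hpat g hg).symm)
  have heq : (Finset.univ.filter (fun l => MvPolynomial.eval₂ (evC b₀) z₀ (expr P F l) ≠ 0)) =
      (Finset.univ.filter (fun l => MvPolynomial.eval₂ (evC b) z (expr P F l) ≠ 0)) := by
    refine Finset.eq_of_subset_of_card_le ?_ hcard.ge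
    intro l hl
    simp only [Finset.mem_filter, Finset.mem_univ, true_and] at hl ⊢
    exact hsub l hl
  have hiff : ∀ l, MvPolynomial.eval₂ (evC b₀) z₀ (expr P F l) = 0 ↔
      MvPolynomial.eval₂ (evC b) z (expr P F l) = 0 := by
    intro l
    have h1 := Finset.ext_iff.1 heq l
    simp only [Finset.mem_filter, Finset.mem_univ, true_and] at h1
    exact not_iff_not.1 h1
  have hlin : ∀ i j k l, z₀ i + z₀ j = z₀ k + z₀ l ↔ z i + z j = z k + z l := by
    intro i j k l
    have h1 := hiff (.inl (i, j, k, l))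
    rw [eval₂_expr_inl, eval₂_expr_inl, sub_sub, sub_sub, sub_eq_zero, sub_eq_zero] at h1
    exact h1
  have heqz : ∀ i j, z₀ i = z₀ j ↔ z i = z j := by
    intro i j
    have h1 := hlin i i j i
    rwa [add_left_inj, add_left_inj] at h1
  have hfz : ∀ f ∈ F, ∀ j, (f.map (evC b₀)).eval (z₀ j) = 0 ↔ (f.map (evC b)).eval (z j) = 0 := by
    intro f hf j
    have h1 := hiff (.inr (⟨f, hf⟩, j))
    rwa [eval₂_expr_inr, eval₂_expr_inr] at h1
  -- complex conjugation
  have hconj : ∀ (c : Fin m → ℝ) (w : Fin P.natDegree → ℂ), P.map (evC c) = prodX w → ∀ i,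
      ∃ k, w k = (starRingEnd ℂ) (w i) := by
    intro c w hw i
    have h1 : (P.map (evC c)).eval (w i) = 0 := by rw [hw, isRoot_prodX]; exact ⟨i, rfl⟩
    have h2 : (P.map (evC c)).eval ((starRingEnd ℂ) (w i)) = 0 := by
      have h3 : (P.map (evC c)).map (starRingEnd ℂ) = P.map (evC c) := by
        rw [Polynomial.map_map]
        congr 1
        ext a
        · simp [evC]
        · simp [evC]
      rw [← h3, Polynomial.eval_map_apply, h1, map_zero]
    rwa [hw, isRoot_prodX] at h2
  choose σ hσ using hconj b₀ z₀ hz₀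
  have hσ' : ∀ i, z (σ i) = (starRingEnd ℂ) (z i) := by
    intro i
    obtain ⟨k, hk⟩ := hconj b z hz i
    rw [← hk]
    refine ((heqz k (σ i)).1 ?_).symm
    by_contra hne
    have h1 := hsep k (σ i) hne
    have h2 : ‖z₀ k - z₀ (σ i)‖ < 2 * ε := by
      rw [hσ i]
      have h3 : z₀ k - (starRingEnd ℂ) (z₀ i) = (z₀ k - z k) +
          (starRingEnd ℂ) (z i - z₀ i) := by
        rw [hk, map_sub]; ring
      rw [h3]
      refine (norm_add_le _ _).trans_lt ?_
      rw [RCLike.norm_conj, norm_sub_rev]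
      have := hclose k
      have := hclose i
      linarith
    linarith
  have hre : ∀ i j, (z₀ i).re = (z₀ j).re ↔ (z i).re = (z j).re := by
    intro i j
    have key : ∀ (w : Fin P.natDegree → ℂ), (∀ i, w (σ i) = (starRingEnd ℂ) (w i)) →
        ((w i).re = (w j).re ↔ w i + w (σ i) = w j + w (σ j)) := by
      intro w hw
      rw [hw i, hw j, Complex.add_conj, Complex.add_conj, Complex.ofReal_inj]
      constructor
      · intro h; rw [h]
      · intro h; linarith
    rw [key z₀ hσ, key z hσ', hlin]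
  have hmono' : Monotone fun i => (z i).re := by
    intro i j hij
    rcases (hmono hij).lt_or_eq with h | h
    · have h1 := hsepre i j h
      have h2 := (Complex.abs_re_le_norm _).trans_lt (hclose i)
      have h3 := (Complex.abs_re_le_norm _).trans_lt (hclose j)
      rw [Complex.sub_re, abs_lt] at h2 h3
      simp only
      linarith [h2.1, h2.2, h3.1, h3.2]
    · exact ((hre i j).1 h).le
  have hr : rho P b = fun i => (z i).re := rho_eq_of_monotone P hP hz hmono'
  refine ⟨fun i j => ?_, fun f hf i => ?_⟩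
  · rw [hr, hr₀]
    exact (hre i j).symm
  · -- real roots
    have key : ∀ (c : Fin m → ℝ) (w : Fin P.natDegree → ℂ), P.map (evC c) = prodX w →
        (∀ i, w (σ i) = (starRingEnd ℂ) (w i)) →
        ((f.map (MvPolynomial.eval c)).eval (w i).re = 0 ↔
          ∃ j, w (σ j) = w j ∧ (w j).re = (w i).re ∧ (f.map (evC c)).eval (w j) = 0) := by
      intro c w hw hwσ
      constructor
      · intro h
        have h1 : (f.map (evC c)).eval (((w i).re : ℝ) : ℂ) = 0 := by
          rw [eval_map_evC_eq_zero]; exact h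
        have h2 : (P.map (evC c)).eval (((w i).re : ℝ) : ℂ) = 0 := by
          obtain ⟨g, hg⟩ := hF f hf
          rw [hg, Polynomial.map_mul, Polynomial.eval_mul, h1, zero_mul]
        rw [hw, isRoot_prodX] at h2
        obtain ⟨j, hj⟩ := h2
        refine ⟨j, ?_, ?_, ?_⟩
        · rw [hwσ, hj, Complex.conj_ofReal]
        · rw [hj, Complex.ofReal_re]
        · rw [hj]; exact h1
      · rintro ⟨j, h1, h2, h3⟩
        rw [hwσ] at h1
        obtain ⟨r, hr⟩ := Complex.conj_eq_iff_real.1 h1
        rw [hr, eval_map_evC_eq_zero] at h3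
        rw [← h2, hr, Complex.ofReal_re]
        exact h3
    rw [hr, hr₀]
    simp only
    rw [key b z hz hσ', key b₀ z₀ hz₀ hσ]
    refine exists_congr fun j => ?_
    rw [heqz (σ j) j, hre j i, hfz f hf j]

end Groth.Agent.An.H867.SCPattern
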