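import Mathlib.Analysis.Complex.Polynomial.Basic
import Mathlib.Topology.Algebra.Polynomial
import Mathlib.Data.Fin.Tuple.Sort
import Groth.Agent.An.H866.AlgDense

/-!
# Continuity of the roots of monic complex polynomials, with multiplicities
-/

set_option autoImplicit false

open Polynomial Topology Filter

namespace Groth.Agent.An.H867.SCRoots

/-- Two tuples with the same multiset of values differ by a permutation. -/
theorem exists_perm {d : ℕ} {α : Type*} (z w : Fin d → α)
    (h : Multiset.map z Finset.univ.val = Multiset.map w Finset.univ.val) :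
    ∃ σ : Equiv.Perm (Fin d), w ∘ σ = z := by
  classical
  have hc : ∀ c : α, Fintype.card {i // z i = c} = Fintype.card {i // w i = c} := by
    intro c
    have h1 := congrArg (Multiset.count c) h
    rw [Multiset.count_map, Multiset.count_map] at h1
    rw [Fintype.card_subtype, Fintype.card_subtype]
    simp only [Finset.card_def, Finset.filter_val]
    simpa only [eq_comm] using h1
  let e : ∀ c : α, {i // z i = c} ≃ {i // w i = c} := fun c => Fintype.equivOfCardEq (hc c)
  refine ⟨(Equiv.sigmaFiberEquiv z).symm.trans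
    ((Equiv.sigmaCongrRight e).trans (Equiv.sigmaFiberEquiv w)), ?_⟩
  funext i
  have : w (e (z i) ⟨i, rfl⟩) = z i := (e (z i) ⟨i, rfl⟩).2
  exact this

/-- The product of `X - z i`. -/
noncomputable def prodX {d : ℕ} (z : Fin d → ℂ) : ℂ[X] := ∏ i, (X - C (z i))

theorem prodX_eq_multiset {d : ℕ} (z : Fin d → ℂ) :
    prodX z = (Multiset.map (fun a => X - C a) (Multiset.map z Finset.univ.val)).prod := by
  rw [Multiset.map_map]
  rfl

theorem roots_prodX {d : ℕ} (z : Fin d → ℂ) : (prodX z).roots = Multiset.map z Finset.univ.val := by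
  rw [prodX_eq_multiset, Polynomial.roots_multiset_prod_X_sub_C]

theorem monic_prodX {d : ℕ} (z : Fin d → ℂ) : (prodX z).Monic :=
  monic_prod_of_monic _ _ fun i _ => monic_X_sub_C (z i)

theorem natDegree_prodX {d : ℕ} (z : Fin d → ℂ) : (prodX z).natDegree = d := by
  rw [prodX, natDegree_prod_of_monic _ _ fun i _ => monic_X_sub_C (z i)]
  simp

theorem eval_prodX {d : ℕ} (z : Fin d → ℂ) (x : ℂ) : (prodX z).eval x = ∏ i, (x - z i) := by
  simp [prodX, eval_prod]

theorem isRoot_prodX {d : ℕ} (z : Fin d → ℂ) (x : ℂ) :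
    (prodX z).eval x = 0 ↔ ∃ i, z i = x := by
  rw [eval_prodX, Finset.prod_eq_zero_iff]
  simp only [Finset.mem_univ, true_and, sub_eq_zero]
  exact ⟨fun ⟨i, h⟩ => ⟨i, h.symm⟩, fun ⟨i, h⟩ => ⟨i, h.symm⟩⟩

theorem perm_of_prodX_eq {d : ℕ} {z w : Fin d → ℂ} (h : prodX z = prodX w) :
    ∃ σ : Equiv.Perm (Fin d), w ∘ σ = z := by
  refine exists_perm z w ?_
  rw [← roots_prodX, ← roots_prodX, h]

theorem prodX_comp_perm {d : ℕ} (z : Fin d → ℂ) (σ : Equiv.Perm (Fin d)) :
    prodX (z ∘ σ) = prodX z := by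
  unfold prodX
  exact Equiv.prod_comp σ (fun i => (X : ℂ[X]) - C (z i))

/-- Every monic complex polynomial of degree `d` is a product of `d` linear factors. -/
theorem exists_prodX {p : ℂ[X]} (hp : p.Monic) {d : ℕ} (hd : p.natDegree = d) :
    ∃ z : Fin d → ℂ, p = prodX z := by
  have hs : p.Splits := IsAlgClosed.splits p
  have hcard : p.roots.card = d := by rw [← hs.natDegree_eq_card_roots, hd]
  subst hcard
  refine ⟨fun i => p.roots.toList.get (i.cast (by rw [Multiset.length_toList])), ?_⟩
  conv_lhs => rw [hs.eq_prod_roots_of_monic hp]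
  rw [prodX_eq_multiset]
  congr 2
  conv_lhs => rw [← Multiset.coe_toList p.roots]
  have : (Finset.univ : Finset (Fin p.roots.card)).val =
    ((List.finRange p.roots.card : List (Fin p.roots.card)) : Multiset (Fin p.roots.card)) := rfl
  rw [this, Multiset.map_coe]
  congr 1
  apply List.ext_get
  · simp
  · intro n h1 h2
    simp

/-- Continuity of roots along a filter. -/
theorem eventually_exists_perm {ι : Type*} {𝓕 : Filter ι} {d : ℕ} (z : ι → Fin d → ℂ)
    (w : Fin d → ℂ) (h : ∀ k, Tendsto (fun b => (prodX (z b)).coeff k) 𝓕 (𝓝 ((prodX w).coeff k)))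
    {ε : ℝ} (hε : 0 < ε) :
    ∀ᶠ b in 𝓕, ∃ σ : Equiv.Perm (Fin d), ∀ i, ‖z b (σ i) - w i‖ < ε := by
  -- it is enough to check on ultrafilters
  rw [Filter.Eventually, mem_iff_ultrafilter]
  intro U hU𝓕
  have hcoef : ∀ k, Tendsto (fun b => (prodX (z b)).coeff k) U (𝓝 ((prodX w).coeff k)) :=
    fun k => (h k).mono_left hU𝓕
  -- boundedness
  let R : ℝ := 1 + ∑ i ∈ Finset.range d, (‖(prodX w).coeff i‖ + 1)
  have hbd : ∀ᶠ b in (U : Filter ι), ∀ i, ‖z b i‖ ≤ R := by
    have h1 : ∀ᶠ b in (U : Filter ι), ∀ k ∈ Finset.range d,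
        ‖(prodX (z b)).coeff k‖ < ‖(prodX w).coeff k‖ + 1 := by
      rw [Filter.eventually_all_finset]
      intro k _
      exact (hcoef k).norm.eventually_lt_const (lt_add_one _)
    filter_upwards [h1] with b hb i
    refine (H866.AlgDense.norm_root_le (prodX (z b)) (monic_prodX _) (z b i)
      ((isRoot_prodX _ _).2 ⟨i, rfl⟩)).trans ?_
    rw [natDegree_prodX]
    exact add_le_add le_rfl (Finset.sum_le_sum fun k hk => (hb k hk).le)
  -- a limit of the tuples of roots
  have hcpt : IsCompact (Set.pi Set.univ (fun _ : Fin d => Metric.closedBall (0 : ℂ) R)) :=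
    isCompact_univ_pi fun _ => isCompact_closedBall _ _
  obtain ⟨v, -, hv⟩ := hcpt.ultrafilter_le_nhds (U.map z) (by
    rw [le_principal_iff]
    change ∀ᶠ b in (U : Filter ι), z b ∈ _
    filter_upwards [hbd] with b hb i _
    simpa using hb i)
  have hv' : Tendsto z U (𝓝 v) := hv
  have hvi : ∀ i, Tendsto (fun b => z b i) U (𝓝 (v i)) := fun i => (tendsto_pi_nhds.1 hv') i
  -- the limit polynomial
  have hpol : prodX v = prodX w := by
    refine Polynomial.funext fun x => ?_
    have h1 : Tendsto (fun b => (prodX (z b)).eval x) U (𝓝 ((prodX v).eval x)) := by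
      simp only [eval_prodX]
      exact tendsto_finsetProd _ fun i _ => tendsto_const_nhds.sub (hvi i)
    have h2 : Tendsto (fun b => (prodX (z b)).eval x) U (𝓝 ((prodX w).eval x)) := by
      have h3 : ∀ u : Fin d → ℂ, (prodX u).eval x =
          ∑ k ∈ Finset.range (d + 1), (prodX u).coeff k * x ^ k := by
        intro u
        rw [eval_eq_sum_range, natDegree_prodX]
      simp only [h3]
      exact tendsto_finsetSum _ fun k _ => (hcoef k).mul_const _
    exact tendsto_nhds_unique h1 h2
  obtain ⟨σ, hσ⟩ := perm_of_prodX_eq hpol.symm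
  -- `v ∘ σ = w`
  have hlast : ∀ᶠ b in (U : Filter ι), ∀ i, ‖z b (σ i) - w i‖ < ε := by
    rw [eventually_all]
    intro i
    have h1 := hvi (σ i)
    have h2 : v (σ i) = w i := congrFun hσ i
    rw [h2] at h1
    have := (Metric.tendsto_nhds.1 h1) ε hε
    filter_upwards [this] with b hb
    rwa [dist_eq_norm] at hb
  exact hlast.mono fun b hb => ⟨σ, hb⟩

end Groth.Agent.An.H867.SCRoots
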