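import Mathlib.RingTheory.MvPolynomial.Symmetric.FundamentalTheorem
import Mathlib.RingTheory.Polynomial.Vieta
import Groth.Agent.An.H867.SCRoots

/-!
# Symmetric functions of the roots, and counting of non-vanishing expressions in the roots
-/

set_option autoImplicit false

open Polynomial

namespace Groth.Agent.An.H867.SCSym

open SCRoots

variable {A : Type*} [CommRing A] {d : ℕ}

theorem eval₂_esymm (φ : A →+* ℂ) (z : Fin d → ℂ) (k : ℕ) :
    MvPolynomial.eval₂ φ z (MvPolynomial.esymm (Fin d) A k) =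
      (Multiset.map z Finset.univ.val).esymm k := by
  let _ : Algebra A ℂ := φ.toAlgebra
  have h := MvPolynomial.aeval_esymm_eq_multiset_esymm (Fin d) A (n := k) z
  rw [← h]
  rfl

theorem coeff_prodX (z : Fin d → ℂ) {j : ℕ} (hj : j ≤ d) :
    (prodX z).coeff (d - j) = (-1) ^ j * (Multiset.map z Finset.univ.val).esymm j := by
  have hc : (Multiset.map z Finset.univ.val).card = d := by simp
  rw [prodX_eq_multiset, Multiset.prod_X_sub_C_coeff _ (by rw [hc]; omega), hc]
  have : d - (d - j) = j := by omega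
  rw [this]

/-- A symmetric function of the roots is a polynomial in the coefficients. -/
theorem exists_eval_symm (P : A[X]) (S : MvPolynomial (Fin d) A) (hS : S.IsSymmetric) :
    ∃ g : A, ∀ (φ : A →+* ℂ) (z : Fin d → ℂ), P.map φ = prodX z →
      MvPolynomial.eval₂ φ z S = φ g := by
  obtain ⟨q, hq⟩ := MvPolynomial.esymmAlgHom_surjective (σ := Fin d) A (n := d) (by simp)
    ⟨S, hS⟩
  have hq' : MvPolynomial.aeval (fun i : Fin d => MvPolynomial.esymm (Fin d) A (i + 1)) q = S := by
    have := congrArg Subtype.val hq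
    rwa [MvPolynomial.esymmAlgHom_apply] at this
  refine ⟨MvPolynomial.aeval (fun i : Fin d => (-1) ^ (i.1 + 1) * P.coeff (d - (i.1 + 1))) q, ?_⟩
  intro φ z h
  have h1 : (MvPolynomial.eval₂Hom φ z).comp
      (MvPolynomial.aeval (fun i : Fin d => MvPolynomial.esymm (Fin d) A (i + 1)) :
        MvPolynomial (Fin d) A →ₐ[A] MvPolynomial (Fin d) A).toRingHom =
      MvPolynomial.eval₂Hom φ
        (fun i : Fin d => MvPolynomial.eval₂ φ z (MvPolynomial.esymm (Fin d) A (i.1 + 1))) := by
    apply MvPolynomial.ringHom_ext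
    · intro a; simp
    · intro i; simp
  have h2 : φ.comp
      (MvPolynomial.aeval (fun i : Fin d => (-1) ^ (i.1 + 1) * P.coeff (d - (i.1 + 1))) :
        MvPolynomial (Fin d) A →ₐ[A] A).toRingHom =
      MvPolynomial.eval₂Hom φ (fun i => φ ((-1) ^ (i.1 + 1) * P.coeff (d - (i.1 + 1)))) := by
    apply MvPolynomial.ringHom_ext
    · intro a; simp
    · intro i; simp
  have h3 : ∀ i : Fin d, MvPolynomial.eval₂ φ z (MvPolynomial.esymm (Fin d) A (i + 1)) =
      φ ((-1) ^ (i.1 + 1) * P.coeff (d - (i.1 + 1))) := by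
    intro i
    rw [eval₂_esymm, map_mul, map_pow, map_neg, map_one]
    have h4 : φ (P.coeff (d - (i.1 + 1))) = (P.map φ).coeff (d - (i.1 + 1)) := by
      rw [coeff_map]
    rw [h4, h, coeff_prodX z (by omega), ← mul_assoc, ← pow_add, ← two_mul, pow_mul]
    simp
  have h5 := DFunLike.congr_fun h1 q
  have h6 := DFunLike.congr_fun h2 q
  have h7 : MvPolynomial.eval₂ φ z S = MvPolynomial.eval₂ φ
      (fun i : Fin d => MvPolynomial.eval₂ φ z (MvPolynomial.esymm (Fin d) A (i.1 + 1))) q := by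
    rw [← hq']
    exact h5
  rw [h7]
  simp only [h3]
  exact h6.symm

/-- `∏ (1 + a_λ X)`. -/
noncomputable def prodOne {Λ : Type*} [Fintype Λ] {R : Type*} [CommRing R] (a : Λ → R) : R[X] :=
  ∏ l, (1 + C (a l) * X)

theorem map_prodOne {Λ : Type*} [Fintype Λ] {R S : Type*} [CommRing R] [CommRing S] (f : R →+* S)
    (a : Λ → R) : (prodOne a).map f = prodOne (fun l => f (a l)) := by
  simp [prodOne, Polynomial.map_prod]

theorem natDegree_prodOne {Λ : Type*} [Fintype Λ] (a : Λ → ℂ) :
    (prodOne a).natDegree = (Finset.univ.filter (fun l => a l ≠ 0)).card := by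
  classical
  have hne : ∀ l, (1 + C (a l) * X : ℂ[X]) ≠ 0 := by
    intro l h
    have := congrArg (fun p => coeff p 0) h
    simp at this
  rw [prodOne, natDegree_prod _ _ fun l _ => hne l, Finset.card_filter]
  refine Finset.sum_congr rfl fun l _ => ?_
  by_cases h : a l = 0
  · simp [h]
  · rw [if_pos h]
    have : (1 + C (a l) * X : ℂ[X]) = C (a l) * X + C 1 := by rw [C_1, add_comm]
    rw [this, natDegree_linear h]

/-- The coefficients of `∏ (1 + ℓ_λ(z) X)` are polynomials in the coefficients of `P`. -/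
theorem exists_coeffs (P : A[X]) {Λ : Type*} [Fintype Λ] (ℓ : Λ → MvPolynomial (Fin d) A)
    (hst : ∀ σ : Equiv.Perm (Fin d), ∃ τ : Equiv.Perm Λ, ∀ l, MvPolynomial.rename σ (ℓ l) = ℓ (τ l)) :
    ∃ g : ℕ → A, ∀ (φ : A →+* ℂ) (z : Fin d → ℂ), P.map φ = prodX z → ∀ s,
      (prodOne (fun l => MvPolynomial.eval₂ φ z (ℓ l))).coeff s = φ (g s) := by
  have hsym : ∀ s, ((prodOne ℓ).coeff s).IsSymmetric := by
    intro s σ
    obtain ⟨τ, hτ⟩ := hst σ
    have h1 : (prodOne ℓ).map (MvPolynomial.rename σ : MvPolynomial (Fin d) A →ₐ[A] _).toRingHom =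
        prodOne ℓ := by
      rw [map_prodOne]
      have : (fun l => (MvPolynomial.rename σ : MvPolynomial (Fin d) A →ₐ[A] _).toRingHom (ℓ l)) =
          fun l => ℓ (τ l) := funext fun l => hτ l
      rw [this, prodOne, prodOne]
      exact Equiv.prod_comp τ (fun l => 1 + C (ℓ l) * X)
    have h2 := congrArg (fun p => coeff p s) h1
    simp only [coeff_map] at h2
    exact h2
  choose g hg using fun s => exists_eval_symm P _ (hsym s)
  refine ⟨g, fun φ z h s => ?_⟩
  rw [← hg s φ z h]
  have h1 : prodOne (fun l => MvPolynomial.eval₂ φ z (ℓ l)) =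
      (prodOne ℓ).map (MvPolynomial.eval₂Hom φ z) := by
    rw [map_prodOne]; rfl
  rw [h1, coeff_map]
  rfl

/-- The number of nonvanishing expressions is controlled by the vanishing pattern of finitely many
polynomials in the coefficients. -/
theorem exists_count (P : A[X]) {Λ : Type*} [Fintype Λ] (ℓ : Λ → MvPolynomial (Fin d) A)
    (hst : ∀ σ : Equiv.Perm (Fin d), ∃ τ : Equiv.Perm Λ, ∀ l, MvPolynomial.rename σ (ℓ l) = ℓ (τ l)) :
    ∃ F : Finset A, ∀ (φ φ' : A →+* ℂ) (z z' : Fin d → ℂ), P.map φ = prodX z →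
      P.map φ' = prodX z' → (∀ g ∈ F, φ g = 0 ↔ φ' g = 0) →
      (Finset.univ.filter (fun l => MvPolynomial.eval₂ φ z (ℓ l) ≠ 0)).card =
        (Finset.univ.filter (fun l => MvPolynomial.eval₂ φ' z' (ℓ l) ≠ 0)).card := by
  classical
  obtain ⟨g, hg⟩ := exists_coeffs P ℓ hst
  refine ⟨(Finset.range (Fintype.card Λ + 1)).image g, fun φ φ' z z' h h' hF => ?_⟩
  rw [← natDegree_prodOne, ← natDegree_prodOne]
  have hle : ∀ a : Λ → ℂ, (prodOne a).natDegree ≤ Fintype.card Λ := by
    intro a
    rw [natDegree_prodOne]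
    exact Finset.card_le_univ _
  have hcoeff : ∀ s, (prodOne (fun l => MvPolynomial.eval₂ φ z (ℓ l))).coeff s = 0 ↔
      (prodOne (fun l => MvPolynomial.eval₂ φ' z' (ℓ l))).coeff s = 0 := by
    intro s
    by_cases hs : s ∈ Finset.range (Fintype.card Λ + 1)
    · rw [hg φ z h, hg φ' z' h']
      exact hF _ (Finset.mem_image_of_mem _ hs)
    · rw [Finset.mem_range, not_lt] at hs
      rw [coeff_eq_zero_of_natDegree_lt (lt_of_le_of_lt (hle _) hs),
        coeff_eq_zero_of_natDegree_lt (lt_of_le_of_lt (hle _) hs)]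
  have hsupp : (prodOne (fun l => MvPolynomial.eval₂ φ z (ℓ l))).support =
      (prodOne (fun l => MvPolynomial.eval₂ φ' z' (ℓ l))).support := by
    ext s
    rw [mem_support_iff, mem_support_iff, Ne, Ne, hcoeff]
  rw [natDegree_eq_support_max', natDegree_eq_support_max']
  · simp only [hsupp]
  · intro h0
    have := congrArg (fun p => coeff p 0) h0
    simp [prodOne, coeff_zero_eq_eval_zero, eval_prod] at this
  · intro h0
    have := congrArg (fun p => coeff p 0) h0
    simp [prodOne, coeff_zero_eq_eval_zero, eval_prod] at this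

end Groth.Agent.An.H867.SCSym
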