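import Groth.Agent.An.H867.AcalDef
import Groth.Agent.An.H867.Strat
import Groth.Agent.An.H885.EpsGerm

/-!
# Supports of sections of sheaves in `Acal`, and lifting

* `Van G s a`: the section `s` of `G` over `A` vanishes near `a`;
* `exists_closed_support`: for `G` in `Acal` and `U` étale over `X`, the support of a section over `U(ℂ)` is
  the set of complex points of a Zariski closed subset of `U`;
* `exists_lift`, `epi_epsPush_map`: if `φ : ε^* F → Q` is an epimorphism with `Q` in `Acal` then `ε_* φ` is an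
  epimorphism.
-/

set_option autoImplicit false

open CategoryTheory CategoryTheory.Limits AlgebraicGeometry TopologicalSpace Topology Opposite

noncomputable section

namespace Groth.Agent.An.H867.T2b

open Groth.Agent.An.H889.OCoh Groth.Agent.An.H885.ClPoint Groth.Agent.An.H867.AcalDef
open Groth.Agent.An.H867.Strat

section Germ

variable {T : Type} [TopologicalSpace T] (G : An.Cl.Ab T)

/-- The section `s` vanishes near `a`. -/
def Van {A : An.Cl T} (s : An.Cl.sect G A) (a : A.E) : Prop :=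
  ∃ (B : An.Cl T) (g : B ⟶ A) (b : B.E), g.toFun b = a ∧ res G g s = 0

variable {G}

theorem isOpen_van {A : An.Cl T} (s : An.Cl.sect G A) : IsOpen {a : A.E | Van G s a} := by
  rw [isOpen_iff_mem_nhds]
  rintro _ ⟨B, g, b, rfl, hg⟩
  have : Set.range g.toFun ∈ 𝓝 (g.toFun b) :=
    (isLocalHomeomorph_toFun g).isOpenMap.isOpen_range.mem_nhds ⟨b, rfl⟩
  filter_upwards [this]
  rintro _ ⟨b', rfl⟩
  exact ⟨B, g, b', rfl, hg⟩

theorem van_res {A A' : An.Cl T} (k : A' ⟶ A) (s : An.Cl.sect G A) (a' : A'.E) :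
    Van G (res G k s) a' ↔ Van G s (k.toFun a') := by
  constructor
  · rintro ⟨B, g, b, rfl, hg⟩
    refine ⟨B, g ≫ k, b, rfl, ?_⟩
    rw [res_comp]
    exact hg
  · rintro ⟨B, g, b, hb, hg⟩
    refine ⟨fibProd k g, fibFst k g, ⟨(a', b), hb.symm⟩, rfl, ?_⟩
    rw [← res_comp, fib_condition, res_comp, hg, map_zero]

theorem eq_zero_of_van {A : An.Cl T} (s : An.Cl.sect G A) (h : ∀ a, Van G s a) : s = 0 :=
  eq_zero_of_forall G s fun a => h a

/-- Vanishing near a point for sections over opens. -/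
theorem van_opens_iff {V : Opens T} (s : An.Cl.sect G ((An.opensToCl T).obj V))
    (x : ((An.opensToCl T).obj V).E) (t : T) (hx : x.1 = t) :
    Van G s x ↔
      ∃ (V' : Opens T) (k : V' ≤ V), t ∈ V' ∧ res G ((An.opensToCl T).map (homOfLE k)) s = 0 := by
  subst hx
  constructor
  · rintro ⟨B, g, b, hb, hg⟩
    obtain ⟨U, hU, g', hg'⟩ := exists_section b
    have hpb : B.p b = x.1 := by
      rw [← g.over, hb]
      rfl
    have hUV : U ≤ V := by
      intro x hx
      have h1 := ((g' ≫ g).over ⟨x, hx⟩)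
      have h2 : ((g' ≫ g).toFun ⟨x, hx⟩).1 = x := h1
      rw [← h2]
      exact ((g' ≫ g).toFun ⟨x, hx⟩).2
    refine ⟨U, hUV, hpb ▸ hU, ?_⟩
    have h3 : (An.opensToCl T).map (homOfLE hUV) = g' ≫ g := by
      refine An.Cl.hom_ext (funext fun x => Subtype.ext ?_)
      exact ((g' ≫ g).over x).symm
    rw [h3, res_comp, hg, map_zero]
  · rintro ⟨V', k, ht', h⟩
    exact ⟨_, (An.opensToCl T).map (homOfLE k), ⟨_, ht'⟩, rfl, h⟩

/-- Along a subset along which `G` is locally constant, the vanishing locus of a section is open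
and closed. -/
theorem exists_nhds_van_iff {Z : Set T} {A : An.Cl T} (s : An.Cl.sect G A) (a : A.E)
    (h : (clPab G).LCat Z (A.p a)) (hZ : A.p a ∈ Z) :
    ∃ P : Prop, ∀ᶠ b in 𝓝 a, A.p b ∈ Z → (Van G s b ↔ P) := by
  obtain ⟨U₀, h₀, g₀, hg₀⟩ := exists_section a
  obtain ⟨V, hzV, hVU, S, -, hS⟩ := h.exists_le h₀
  let g₁ : (An.opensToCl T).obj V ⟶ A := (An.opensToCl T).map (homOfLE hVU) ≫ g₀
  obtain ⟨σ, hσ, V'', k, k', ht'', e⟩ := (hS _ hzV hZ).2 V hzV (res G g₁ s)
  refine ⟨σ = 0, ?_⟩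
  let g₂ : (An.opensToCl T).obj V'' ⟶ A := (An.opensToCl T).map (homOfLE k') ≫ g₁
  have hmem : Set.range g₂.toFun ∈ 𝓝 a := by
    refine (isLocalHomeomorph_toFun g₂).isOpenMap.isOpen_range.mem_nhds ⟨⟨A.p a, ht''⟩, ?_⟩
    exact hg₀
  filter_upwards [hmem]
  rintro _ ⟨x, rfl⟩ hZt
  have hpt : A.p (g₂.toFun x) = x.1 := g₂.over _
  rw [hpt] at hZt
  have e1 : res G g₂ s = res G ((An.opensToCl T).map (homOfLE k)) σ :=
    (res_comp G g₁ _ s).trans e.symm
  refine (van_res g₂ s x).symm.trans ?_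
  rw [e1]
  refine (van_opens_iff _ x _ rfl).trans ?_
  constructor
  · rintro ⟨V', k2, ht', h0⟩
    have h1 : (clPab G).res (k2.trans k) σ = 0 := by
      rw [← (clPab G).res_res k k2]
      exact h0
    exact (hS _ (k x.2) hZt).1 σ hσ V' _ ht' h1
  · rintro rfl
    exact ⟨V'', le_rfl, x.2, ((congrArg _ (map_zero _)).trans (map_zero _))⟩

/-- The vanishing locus is locally constant on a subset over `Z`. -/
theorem isLocallyConstant_van {Z : Set T} {A : An.Cl T} (s : An.Cl.sect G A) {C : Set A.E}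
    (hC : ∀ a ∈ C, A.p a ∈ Z ∧ (clPab G).LCat Z (A.p a)) :
    IsLocallyConstant fun c : C => Van G s c.1 := by
  rw [IsLocallyConstant.iff_eventually_eq]
  rintro ⟨a, ha⟩
  obtain ⟨P, hP⟩ := exists_nhds_van_iff (Z := Z) s a (hC a ha).2 (hC a ha).1
  have ha' := hP.self_of_nhds (hC a ha).1
  have h1 : Filter.Tendsto (Subtype.val : C → A.E) (𝓝 ⟨a, ha⟩) (𝓝 a) :=
    continuous_subtype_val.continuousAt
  have h2 := h1.eventually hP
  filter_upwards [h2] with c hc
  exact propext ((hc (hC _ c.2).1).trans ha'.symm)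

/-- All or nothing on a connected subset. -/
theorem forall_or_forall {Z : Set T} {A : An.Cl T} (s : An.Cl.sect G A) {C : Set A.E}
    (hC : ∀ a ∈ C, A.p a ∈ Z ∧ (clPab G).LCat Z (A.p a)) (hpre : _root_.IsPreconnected C) :
    (∀ a ∈ C, Van G s a) ∨ (∀ a ∈ C, ¬ Van G s a) := by
  have : PreconnectedSpace C := isPreconnected_iff_preconnectedSpace.1 hpre
  have hlc := isLocallyConstant_van s hC
  by_cases hex : ∃ a ∈ C, Van G s a
  · obtain ⟨a, haC, ha⟩ := hex
    left
    intro b hb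
    have h1 : Van G s a = Van G s b := hlc.apply_eq_of_preconnectedSpace ⟨a, haC⟩ ⟨b, hb⟩
    exact h1 ▸ ha
  · right
    intro b hb h
    exact hex ⟨b, hb, h⟩

end Germ

variable {X : Scheme.{0}} [X.Over An.SC] [LocallyOfFiniteType (X ↘ An.SC)] [Fact An.EtaleLH]

/-- The vanishing locus of a section over `U(ℂ)`. -/
def vanSet (G : An.Cl.Ab (An.Pts X)) (U : X.Etale) (s : An.Cl.sect G ((An.eps X).obj U)) :
    Set (An.Pts U.left) :=
  fun a => Van (A := (An.eps X).obj U) G s a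

theorem isOpen_vanSet (G : An.Cl.Ab (An.Pts X)) (U : X.Etale)
    (s : An.Cl.sect G ((An.eps X).obj U)) : IsOpen (vanSet G U s) :=
  isOpen_van (A := (An.eps X).obj U) s

/-- The vanishing locus of a section over `U(ℂ)` of a sheaf in `Acal` is a union of strata. -/
theorem isStrat_van {G : An.Cl.Ab (An.Pts X)} (hG : Acal X G) (U : X.Etale)
    (s : An.Cl.sect G ((An.eps X).obj U)) : IsStrat (X := U.left) (vanSet G U s) := by
  intro W hW hirr
  let f : U.left ⟶ X := U.hom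
  have hf : f.IsOver An.SC := ⟨rfl⟩
  have h1 : IsIrreducible (closure (f '' W)) := (hirr.image _ f.continuous.continuousOn).closure
  obtain ⟨O, hne, hO⟩ := hG _ isClosed_closure h1
  have hne' : (W ∩ (f ⁻¹ᵁ O : U.left.Opens)).Nonempty := by
    obtain ⟨x, hx, hxU⟩ := hne
    obtain ⟨_, hy, y, hyW, rfl⟩ := mem_closure_iff.1 hx O O.2 hxU
    exact ⟨y, hyW, hy⟩
  refine ⟨(f ⁻¹ᵁ O : U.left.Opens), (f ⁻¹ᵁ O).2, hne', ?_⟩
  have hpre := isPreconnected_preimage_pt hW hirr (f ⁻¹ᵁ O) hne'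
  have hp : ∀ b : An.Pts U.left, (((An.eps X).obj U).p b).pt = f b.pt := fun b =>
    An.Pts.pt_map (X := U.left) f b
  have := forall_or_forall (A := (An.eps X).obj U) (Z := An.Pts.pt ⁻¹' (closure (f '' W))) s
    (C := An.Pts.pt ⁻¹' (W ∩ ((f ⁻¹ᵁ O : U.left.Opens) : Set U.left))) (fun a ha => by
      have ha1 : (((An.eps X).obj U).p a).pt ∈ closure (f '' W) :=
        Set.mem_of_eq_of_mem (hp a) (subset_closure ⟨_, ha.1, rfl⟩)
      have ha2 : (((An.eps X).obj U).p a).pt ∈ (O : Set X) :=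
        Set.mem_of_eq_of_mem (hp a) ha.2
      exact ⟨ha1, hO _ ha2 ha1⟩) hpre
  exact this.imp (fun h a ha1 ha2 => h a ⟨ha1, ha2⟩) (fun h a ha1 ha2 => h a ⟨ha1, ha2⟩)

/-- **Supports are Zariski closed.** -/
theorem exists_closed_support {G : An.Cl.Ab (An.Pts X)} (hG : Acal X G) (U : X.Etale)
    (s : An.Cl.sect G ((An.eps X).obj U)) :
    ∃ Z : Set U.left, IsClosed Z ∧ ∀ a : An.Pts U.left,
      Van (A := (An.eps X).obj U) G s a ↔ a.pt ∉ Z := by
  obtain ⟨Z, hZ, h⟩ := exists_isClosed (X := U.left)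
    (isOpen_vanSet G U s).isClosed_compl (isStrat_van hG U s).compl
  refine ⟨Z, hZ, fun a => ?_⟩
  have h1 := not_congr (h a)
  rw [Set.notMem_compl_iff] at h1
  exact h1

end Groth.Agent.An.H867.T2b
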